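import Cfsg.Agent.Lib.Geo.OrthNorm.Form
import Cfsg.Agent.Lib.Geo.SympNorm.SpProj

/-!
# Extraspecial two-groups of isometries of a symmetric form: counting and coordinates
-/

set_option autoImplicit false
set_option linter.unusedSectionVars false

namespace CfsgLib.Geo.OrthNorm

open Matrix Cfsg.Geo CfsgLib.Geo.SympNorm

variable {ι κ : Type} [Fintype ι] [DecidableEq ι] [Fintype κ] [DecidableEq κ] {F : Type*} [Field F]

/-- An extraspecial two-group of order `2 ^ (1 + 2 * k)` of isometries of a symmetric form. -/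
structure IsOp (Γ : Matrix ι ι F) (k : ℕ) (R : Subgroup (GL ι F)) : Prop where
  gram : IsSymGram Γ
  le : R ≤ isoGL Γ
  neg_one_mem : (-1 : GL ι F) ∈ R
  sign : ∀ x ∈ R, ∀ y ∈ R, PC x y
  sq : ∀ x ∈ R, x * x = 1 ∨ x * x = -1
  span : Submodule.span F (matrixSet R) = ⊤
  dim : Fintype.card ι = 2 ^ k
  card : Nat.card R = 2 ^ (1 + 2 * k)

namespace IsOp

variable {Γ : Matrix ι ι F} {k : ℕ} {R : Subgroup (GL ι F)} (h : IsOp Γ k R)

include h

theorem pre : IsPre R where
  two := h.gram.two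
  card_ne := by rw [h.dim, Nat.cast_pow, Nat.cast_two]; exact pow_ne_zero _ h.gram.two
  neg_one_mem := h.neg_one_mem
  sign := h.sign
  sq_mem := fun {x} hx => by
    rcases h.sq x hx with e | e <;> rw [e]
    exacts [one_mem _, neg_mem_scalars (one_mem _)]
  span := h.span

theorem finite : Finite R := Nat.finite_of_card_ne_zero (by rw [h.card]; positivity)

theorem neg_one_ne : (-1 : GL ι F) ≠ 1 := fun e => by
  haveI := h.pre.nonempty
  obtain ⟨i⟩ := ‹Nonempty ι›
  have := congrArg (fun g : GL ι F => (g : Matrix ι ι F) i i) e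
  simp at this
  exact h.gram.two (by linear_combination -this)

theorem neg_mem {x : GL ι F} (hx : x ∈ R) : -x ∈ R := h.pre.neg_mem hx

theorem eq_or_neg {c : GL ι F} (hc : c ∈ scalars ι F) (hi : c ∈ isoGL Γ) : c = 1 ∨ c = -1 := by
  haveI := h.pre.nonempty
  obtain ⟨d, hd⟩ := (mem_scalars_iff c).1 hc
  have e := mem_isoGL.1 hi
  rw [hd, transpose_smul, transpose_one, Matrix.smul_mul, Matrix.one_mul, Matrix.mul_smul, Matrix.mul_one,
    smul_smul] at e
  have hΓ0 : Γ ≠ 0 := fun e0 => h.gram.unit.ne_zero (by rw [e0, det_zero])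
  have e1 : (d : F) * d = 1 := smul_left_injective F hΓ0 (e.trans (one_smul F Γ).symm)
  rcases mul_self_eq_one_iff.1 e1 with e2 | e2
  · exact Or.inl (Units.ext (by rw [hd, e2, one_smul, Units.val_one]))
  · exact Or.inr (Units.ext (by rw [hd, e2, neg_smul, one_smul, Units.val_neg, Units.val_one]))

theorem mem_of_scalar {c x : GL ι F} (hc : c ∈ scalars ι F) (hx : x ∈ R) (hi : c * x ∈ isoGL Γ) : c * x ∈ R := by
  have : c ∈ isoGL Γ := by
    have := mul_mem hi (inv_mem (h.le hx)); rwa [mul_inv_cancel_right] at this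
  rcases h.eq_or_neg hc this with e | e <;> rw [e]
  · rwa [one_mul]
  · rw [neg_one_mul]; exact h.neg_mem hx

theorem eq_or_neg_of_scalar {x y : GL ι F} (hx : x ∈ R) (hy : y ∈ R) (e : x * y⁻¹ ∈ scalars ι F) : x = y ∨ x = -y := by
  rcases h.eq_or_neg e (h.le (mul_mem hx (inv_mem hy))) with e' | e'
  · exact Or.inl (mul_inv_eq_one.1 e')
  · exact Or.inr (by rw [mul_inv_eq_iff_eq_mul.1 e', neg_one_mul])

theorem sq_eq_of_scalar {x y : GL ι F} (hx : x ∈ R) (hy : y ∈ R) (e : x * y⁻¹ ∈ scalars ι F) : x * x = y * y := by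
  rcases h.eq_or_neg_of_scalar hx hy e with rfl | rfl
  · rfl
  · rw [neg_mul_neg]

theorem not_scalar_of_nons {x : GL ι F} (hx : x ∈ R) (e : x * x = -1) : x ∉ scalars ι F := fun hs => by
  rcases h.eq_or_neg hs (h.le hx) with rfl | rfl <;> simp at e <;> exact h.neg_one_ne e.symm

/-- Halving. -/
theorem card_le_cenIn {D : Subgroup (GL ι F)} (hD : D ≤ R) {x : GL ι F} (hx : x ∈ R) :
    Nat.card D ≤ 2 * Nat.card (cenIn D x) := by
  classical
  haveI := h.finite
  haveI : Finite D := Finite.of_injective (Subgroup.inclusion hD) (Subgroup.inclusion_injective hD)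
  haveI : Finite (cenIn D x) :=
    Finite.of_injective (Subgroup.inclusion (cenIn_le D x)) (Subgroup.inclusion_injective _)
  by_cases hall : ∀ t ∈ D, Commute t x
  · rw [show cenIn D x = D from le_antisymm (cenIn_le D x) fun t ht => mem_cenIn.2 ⟨ht, hall t ht⟩]
    omega
  push Not at hall
  obtain ⟨t₀, ht₀, hne⟩ := hall
  have hac : Ac t₀ x := (h.sign t₀ (hD ht₀) x hx).resolve_left hne
  let f : D → Bool × cenIn D x := fun t =>
    if hc : Commute (t : GL ι F) x then (true, ⟨t, mem_cenIn.2 ⟨t.2, hc⟩⟩)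
    else (false, ⟨t₀ * t, mem_cenIn.2 ⟨mul_mem ht₀ t.2,
      (commute_of_ac_ac hac.symm ((h.sign _ (hD t.2) x hx).resolve_left hc).symm).symm⟩⟩)
  have hf : Function.Injective f := by
    intro s t e
    by_cases hs : Commute (s : GL ι F) x <;> by_cases ht : Commute (t : GL ι F) x <;> simp [f, hs, ht] at e
    · exact e
    · exact e
  have := Nat.card_le_card_of_injective f hf
  simpa [Nat.card_prod] using this

theorem card_cen₁ {x : GL ι F} (hx : x ∈ R) : 2 ^ (2 * k) ≤ Nat.card (cenIn R x) := by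
  have := h.card_le_cenIn le_rfl hx
  rw [h.card, show 1 + 2 * k = 2 * k + 1 by omega, pow_succ] at this
  omega

theorem card_cen₂ {x y : GL ι F} (hx : x ∈ R) (hy : y ∈ R) :
    2 ^ (2 * k) ≤ 2 * Nat.card (cenIn (cenIn R x) y) :=
  (h.card_cen₁ hx).trans (h.card_le_cenIn (cenIn_le R x) hy)

theorem card_cen₃ {x y z : GL ι F} (hx : x ∈ R) (hy : y ∈ R) (hz : z ∈ R) :
    2 ^ (2 * k) ≤ 4 * Nat.card (cenIn (cenIn (cenIn R x) y) z) := by
  have h1 := h.card_cen₂ hx hy
  have h2 := h.card_le_cenIn ((cenIn_le (cenIn R x) y).trans (cenIn_le R x)) hz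
  omega

/-- More than two elements include a non-scalar. -/
theorem exists_not_scalar {D : Subgroup (GL ι F)} (hD : D ≤ R) (hc : 2 < Nat.card D) :
    ∃ t ∈ D, t ∉ scalars ι F := by
  classical
  by_contra! hall
  have hsub : (D : Set (GL ι F)) ⊆ (({1, -1} : Finset (GL ι F)) : Set (GL ι F)) := fun t ht => by
    simpa using h.eq_or_neg (hall t ht) (h.le (hD ht))
  have h1 := Set.ncard_le_ncard hsub (Finset.finite_toSet _)
  rw [← Nat.card_coe_set_eq, Set.ncard_coe_finset] at h1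
  have h2 : ({1, -1} : Finset (GL ι F)).card ≤ 2 := Finset.card_le_two
  exact absurd (h1.trans h2) (by simpa using hc)

/-- More than four elements leave `⟨-1, x⟩`. -/
theorem exists_not_pair {D : Subgroup (GL ι F)} (hD : D ≤ R) (hc : 4 < Nat.card D) {x : GL ι F} (hx : x ∈ R) :
    ∃ t ∈ D, t ∉ scalars ι F ∧ t * x⁻¹ ∉ scalars ι F := by
  classical
  by_contra! hall
  have hsub : (D : Set (GL ι F)) ⊆ (({1, -1, x, -x} : Finset (GL ι F)) : Set (GL ι F)) := fun t ht => by
    by_cases hts : t ∈ scalars ι F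
    · rcases h.eq_or_neg hts (h.le (hD ht)) with e | e <;> simp [e]
    · rcases h.eq_or_neg_of_scalar (hD ht) hx (hall t ht hts) with e | e <;> simp [e]
  have h1 := Set.ncard_le_ncard hsub (Finset.finite_toSet _)
  rw [← Nat.card_coe_set_eq, Set.ncard_coe_finset] at h1
  have h2 : ({1, -1, x, -x} : Finset (GL ι F)).card ≤ 4 := Finset.card_le_four
  exact absurd (h1.trans h2) (by simpa using hc)

/-- An involution has an anticommuting involution. -/
theorem exists_partner {a : GL ι F} (ha : a ∈ R) (haa : a * a = 1) (ha1 : a ∉ scalars ι F) :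
    ∃ b ∈ R, b * b = 1 ∧ Ac a b := by
  obtain ⟨b, hb, hab⟩ := h.pre.exists_ac ha ha1
  rcases h.sq b hb with e | e
  · exact ⟨b, hb, e, hab⟩
  · exact ⟨a * b, mul_mem ha hb, by rw [hab.sq_mul, haa, e]; simp, Ac.mul_right' (Commute.refl a) hab⟩

end IsOp

theorem IsOp.map {ι' : Type} [Fintype ι'] [DecidableEq ι'] {Γ : Matrix ι ι F} {k : ℕ} {R : Subgroup (GL ι F)}
    (h : IsOp Γ k R) (L : (ι' → F) ≃ₗ[F] (ι → F)) {Γ' : Matrix ι' ι' F} (hΓ' : IsSymGram Γ')
    (hmem : ∀ g : GL ι F, coordGL L g ∈ isoGL Γ' ↔ g ∈ isoGL Γ) :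
    IsOp Γ' k (R.map (coordGL L).toMonoidHom) where
  gram := hΓ'
  le := by rintro _ ⟨x, hx, rfl⟩; exact (hmem x).2 (h.le hx)
  neg_one_mem := ⟨-1, h.neg_one_mem, coordGL_neg_one L⟩
  sign := by
    rintro _ ⟨x, hx, rfl⟩ _ ⟨y, hy, rfl⟩
    exact (h.sign x hx y hy).imp (fun e => e.map (coordGL L)) (coord_ac L)
  sq := by
    rintro _ ⟨x, hx, rfl⟩
    show coordGL L x * coordGL L x = 1 ∨ coordGL L x * coordGL L x = -1
    rcases h.sq x hx with e | e <;> rw [← map_mul, e]
    · exact Or.inl (map_one _)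
    · exact Or.inr (coordGL_neg_one L)
  span := by
    refine top_unique fun X _ => ?_
    have hX : (coordAlg L).symm X ∈ Submodule.span F (matrixSet R) := h.span ▸ Submodule.mem_top
    have h1 := Submodule.mem_map_of_mem (f := (coordAlg L).toLinearMap) hX
    rw [Submodule.map_span] at h1
    rw [show X = (coordAlg L).toLinearMap ((coordAlg L).symm X) by simp]
    refine Submodule.span_mono ?_ h1
    rintro _ ⟨_, ⟨x, hx, rfl⟩, rfl⟩
    exact ⟨coordGL L x, ⟨x, hx, rfl⟩, rfl⟩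
  dim := by
    have := L.finrank_eq
    rw [Module.finrank_pi, Module.finrank_pi] at this
    rw [this, h.dim]
  card := by rw [Subgroup.card_map_of_injective (f := (coordGL L).toMonoidHom) (coordGL L).injective, h.card]

section Halves

variable {Γ : Matrix (κ ⊕ κ) (κ ⊕ κ) F} {k : ℕ} {R : Subgroup (GL (κ ⊕ κ) F)}

theorem gram_halves (hΓ : IsSymGram Γ) (ha : aM ∈ isoGL Γ) (hb : bM ∈ isoGL Γ) :
    ∃ G : Matrix κ κ F, IsSymGram G ∧ Γ = fromBlocks G 0 0 G := by
  have h1 := mem_isoGL.1 ha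
  have h2' := mem_isoGL.1 hb
  rw [aM_val, ← fromBlocks_toBlocks Γ] at h1
  rw [show ((bM : GL (κ ⊕ κ) F) : Matrix (κ ⊕ κ) (κ ⊕ κ) F) = fromBlocks 0 1 1 0 from rfl,
    ← fromBlocks_toBlocks Γ] at h2'
  simp only [fromBlocks_transpose, transpose_zero, transpose_one,
    transpose_neg, fromBlocks_multiply, fromBlocks_inj, Matrix.one_mul, Matrix.zero_mul, Matrix.mul_one, Matrix.mul_zero, add_zero, zero_add,
    Matrix.neg_mul, Matrix.mul_neg, neg_neg] at h1 h2'
  obtain ⟨-, e12, e21, -⟩ := h1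
  obtain ⟨e11, -, -, -⟩ := h2'
  have z12 : Γ.toBlocks₁₂ = 0 := (smul_eq_zero.1 (show (2 : F) • Γ.toBlocks₁₂ = 0 by
    rw [two_smul]; nth_rewrite 1 [← e12]; exact neg_add_cancel _)).resolve_left hΓ.two
  have z21 : Γ.toBlocks₂₁ = 0 := (smul_eq_zero.1 (show (2 : F) • Γ.toBlocks₂₁ = 0 by
    rw [two_smul]; nth_rewrite 1 [← e21]; exact neg_add_cancel _)).resolve_left hΓ.two
  have hG : Γ = fromBlocks Γ.toBlocks₁₁ 0 0 Γ.toBlocks₁₁ := by
    conv_lhs => rw [← fromBlocks_toBlocks Γ, z12, z21, e11]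
  refine ⟨Γ.toBlocks₁₁, ⟨hΓ.two, ?_, ?_⟩, hG⟩
  · have := hΓ.symm
    rw [hG, fromBlocks_transpose, fromBlocks_inj] at this
    exact this.1
  · have := hΓ.unit
    rw [hG, det_fromBlocks_zero₂₁] at this
    exact isUnit_of_mul_isUnit_left this

variable {G : Matrix κ κ F}

theorem IsOp.half (hG : IsSymGram G) (h : IsOp (fromBlocks G 0 0 G) (k + 1) R) (ha : aM ∈ R) (hb : bM ∈ R) :
    IsOp G k (SympNorm.half R) := by
  classical
  have hp := h.pre
  have hh := hp.half ha hb
  haveI : Nonempty κ := hh.nonempty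
  obtain ⟨i⟩ := ‹Nonempty κ›
  refine ⟨hG, fun y hy => (dg_mem_iso_iff.1 (h.le (mem_half.1 hy))).1, hh.neg_one_mem, hh.sign,
    fun x hx => (h.sq _ hx).imp (fun e => di_injective (by rw [map_mul, map_one]; exact e))
      fun e => di_injective (by rw [map_mul, di_neg, map_one]; exact e), hh.span, ?_, ?_⟩
  · have := h.dim
    rw [Fintype.card_sum, pow_succ] at this
    omega
  · let f : Bool × Bool × SympNorm.half R → R := fun p =>
      ⟨di (p.2.2 : GL κ F) * (bif p.1 then aM else 1) * (bif p.2.1 then bM else 1), by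
        refine mul_mem (mul_mem p.2.2.2 ?_) ?_ <;> cases p.1 <;> cases p.2.1 <;>
          first
            | exact ha
            | exact hb
            | exact one_mem R⟩
    have hf : Function.Bijective f := by
      refine ⟨?_, ?_⟩
      · rintro ⟨a, b, r⟩ ⟨a', b', r'⟩ e
        have e' := congrArg (fun g : R => ((g : GL (κ ⊕ κ) F) : Matrix (κ ⊕ κ) (κ ⊕ κ) F)) e
        have hne : ((r : GL κ F) : Matrix κ κ F) ≠ 0 := fun e0 => by
          have := Units.mul_inv (r : GL κ F)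
          rw [e0, zero_mul] at this
          exact zero_ne_one this
        have hne' : ((r : GL κ F) : Matrix κ κ F) ≠ -((r : GL κ F) : Matrix κ κ F) := fun e0 => hne
          ((smul_eq_zero.1 (show (2 : F) • ((r : GL κ F) : Matrix κ κ F) = 0 by
            rw [two_smul]; nth_rewrite 2 [e0]; exact add_neg_cancel _)).resolve_left h.gram.two)
        have hext : ∀ {p q : GL κ F}, (p : Matrix κ κ F) = q → p = q := fun e => Units.ext e
        cases a <;> cases b <;> cases a' <;> cases b' <;>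
          simp [f, di_apply, dg_val, bM, aM_val, fromBlocks_multiply, fromBlocks_inj] at e' ⊢ <;>
          first
            | exact Subtype.ext (Units.ext e')
            | exact Subtype.ext (Units.ext e'.1)
            | exact hne e'.1
            | exact hne e'.2.1
            | exact hne' (e'.1.trans e'.2.symm)
            | exact hne' (e'.2.trans (by rw [e'.1]))
      · rintro ⟨x, hx⟩
        have diag : ∀ y ∈ R, Commute y aM → ∃ a : Bool, ∃ r : SympNorm.half R, di (r : GL κ F) * (bif a then aM else 1) = y := by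
          intro y hy hya
          obtain ⟨r, hr, e | e⟩ := hp.exists_half ha hb hy hya
          · exact ⟨false, ⟨r, hr⟩, by simp [e, di_apply]⟩
          · exact ⟨true, ⟨r, hr⟩, by simp [e, di_apply, aM, ← map_mul]⟩
        rcases h.sign x hx aM ha with hc | hc
        · obtain ⟨a, r, e⟩ := diag x hx hc
          exact ⟨(a, false, r), Subtype.ext (by simpa [f] using e)⟩
        · have hba : Ac bM (aM : GL (κ ⊕ κ) F) := Units.ext (by
            simp [bM, aM_val, fromBlocks_multiply, fromBlocks_neg])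
          obtain ⟨a, r, e⟩ := diag (x * bM) (mul_mem hx hb) (commute_of_ac_ac hc.symm hba.symm).symm
          refine ⟨(a, true, r), Subtype.ext ?_⟩
          show di (r : GL κ F) * (bif a then aM else 1) * bM = x
          rw [e, mul_assoc, bM_sq, mul_one]
    have := Nat.card_eq_of_bijective f hf
    rw [h.card, Nat.card_prod, Nat.card_prod, Nat.card_eq_fintype_card, Fintype.card_bool,
      show 1 + 2 * (k + 1) = (1 + 2 * k) + 2 by omega, pow_add] at this
    omega

end Halves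

/-- Coordinates at an involution and a partner. -/
theorem IsOp.exists_coords {Γ : Matrix ι ι F} {k : ℕ} {R : Subgroup (GL ι F)} (h : IsOp Γ k R) {a b : GL ι F}
    (ha : a ∈ R) (hb : b ∈ R) (haa : a * a = 1) (hbb : b * b = 1) (hab : Ac a b) :
    ∃ (n : ℕ) (L : (Fin n ⊕ Fin n → F) ≃ₗ[F] (ι → F)) (G : Matrix (Fin n) (Fin n) F),
      IsSymGram G ∧ coordGL L a = aM ∧ coordGL L b = bM ∧
        IsOp (fromBlocks G 0 0 G) k (R.map (coordGL L).toMonoidHom) ∧
        (∀ g : GL ι F, coordGL L g ∈ isoGL (fromBlocks G 0 0 G) ↔ g ∈ isoGL Γ) ∧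
        (om Γ).map (coordGL L).toMonoidHom = om (fromBlocks G 0 0 G) := by
  obtain ⟨n, L, -, ea, eb⟩ := exists_coord h.gram.two haa hbb hab
  obtain ⟨Γ', hΓ', hmem, hom⟩ := exists_symGram h.gram L
  obtain ⟨G, hG, rfl⟩ := gram_halves hΓ' (ea ▸ (hmem a).2 (h.le ha)) (eb ▸ (hmem b).2 (h.le hb))
  exact ⟨n, L, G, hG, ea, eb, h.map L hΓ' hmem, hmem, hom⟩

/-- Elementary abelian subgroups have order at most `2 ^ (k + 1)`. -/
theorem card_abelian_le : ∀ (k : ℕ) {ι : Type} [Fintype ι] [DecidableEq ι] {Γ : Matrix ι ι F} {R : Subgroup (GL ι F)},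
    IsOp Γ k R → ∀ A : Subgroup (GL ι F), A ≤ R → (∀ x ∈ A, ∀ y ∈ A, Commute x y) → (∀ x ∈ A, x * x = 1) →
      Nat.card A ≤ 2 ^ (k + 1) := by
  classical
  intro k
  induction k with
  | zero =>
    intro ι _ _ Γ R h A hA _ _
    haveI := h.finite
    refine (Nat.card_le_card_of_injective _ (Subgroup.inclusion_injective hA)).trans ?_
    rw [h.card]
  | succ k ih =>
    intro ι _ _ Γ R h A hA hc hsq
    haveI := h.finite
    haveI : Finite A := Finite.of_injective (Subgroup.inclusion hA) (Subgroup.inclusion_injective hA)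
    by_cases hall : ∀ a ∈ A, a ∈ scalars ι F
    · have h2 : Nat.card A ≤ 2 := by
        by_contra! h2
        obtain ⟨t, ht, ht1⟩ := h.exists_not_scalar hA h2
        exact ht1 (hall t ht)
      exact h2.trans (Nat.le_self_pow (by omega) 2)
    push Not at hall
    obtain ⟨a, ha, ha1⟩ := hall
    obtain ⟨b, hb, hbb, hab⟩ := h.exists_partner (hA ha) (hsq a ha) ha1
    obtain ⟨n, L, G, hG, ea, eb, h', -, -⟩ := h.exists_coords (hA ha) hb (hsq a ha) hbb hab
    set A' := A.map (coordGL L).toMonoidHom with hA'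
    have hA'R : A' ≤ R.map (coordGL L).toMonoidHom := Subgroup.map_mono hA
    have haM : aM ∈ A' := ⟨a, ha, ea⟩
    have haR : aM ∈ R.map (coordGL L).toMonoidHom := hA'R haM
    have hbR : bM ∈ R.map (coordGL L).toMonoidHom := ⟨b, hb, eb⟩
    have hc' : ∀ x ∈ A', ∀ y ∈ A', Commute x y := by
      rintro _ ⟨x, hx, rfl⟩ _ ⟨y, hy, rfl⟩
      exact (hc x hx y hy).map _
    have hsq' : ∀ x ∈ A', x * x = 1 := by
      rintro _ ⟨x, hx, rfl⟩
      rw [← map_mul, hsq x hx, map_one]
    have h2 := ih (h'.half hG haR hbR) (A'.comap di) (fun r hr => hA'R hr)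
      (fun x hx y hy => Commute.of_map di_injective (hc' _ hx _ hy))
      (fun x hx => di_injective (by rw [map_mul, map_one]; exact hsq' _ hx))
    haveI : Finite A' := Finite.of_surjective (fun x : A => (⟨coordGL L (x : GL ι F), x, x.2, rfl⟩ : A'))
      (fun ⟨y, x, hx, e⟩ => ⟨⟨x, hx⟩, Subtype.ext e⟩)
    haveI : Finite (A'.comap di) := Finite.of_injective (fun r : A'.comap di => (⟨di (r : GL (Fin n) F), r.2⟩ : A'))
      fun r r' e => Subtype.ext (di_injective (congrArg Subtype.val e))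
    let f : Bool × A'.comap di → A' := fun p =>
      ⟨di (p.2 : GL (Fin n) F) * (bif p.1 then aM else 1), by
        refine mul_mem p.2.2 ?_
        cases p.1
        exacts [one_mem _, haM]⟩
    have hf : Function.Surjective f := by
      rintro ⟨x, hx⟩
      obtain ⟨r, -, e | e⟩ := h'.pre.exists_half haR hbR (hA'R hx) (hc' x hx aM haM)
      · exact ⟨(false, ⟨r, by rw [Subgroup.mem_comap, di_apply, ← e]; exact hx⟩), Subtype.ext (by simp [f, e, di_apply])⟩
      · have hd : di r = x * aM := by rw [e, di_apply, aM, ← map_mul]; simp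
        exact ⟨(true, ⟨r, by rw [Subgroup.mem_comap, hd]; exact mul_mem hx haM⟩),
          Subtype.ext (by simp [f, hd, mul_assoc, aM_sq])⟩
    have h3 := Nat.card_le_card_of_surjective f hf
    have e : Nat.card A' = Nat.card A :=
      Subgroup.card_map_of_injective (f := (coordGL L).toMonoidHom) (coordGL L).injective
    rw [← e]
    rw [Nat.card_prod, Nat.card_eq_fintype_card (α := Bool), Fintype.card_bool] at h3
    rw [pow_succ]
    omega

namespace IsOp

variable {Γ : Matrix ι ι F} {k : ℕ} {R : Subgroup (GL ι F)} (h : IsOp Γ k R)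

include h

/-- A large subgroup contains an element of square minus one. -/
theorem exists_nons {D : Subgroup (GL ι F)} (hD : D ≤ R) (hc : 2 ^ (k + 1) < Nat.card D) :
    ∃ t ∈ D, t * t = -1 := by
  by_contra! hall
  have hsq : ∀ t ∈ D, t * t = 1 := fun t ht => (h.sq t (hD ht)).resolve_right (hall t ht)
  refine (card_abelian_le k h D hD (fun x hx y hy => (h.sign x (hD hx) y (hD hy)).resolve_right fun hac => ?_)
    hsq).not_gt hc
  have e := hsq _ (mul_mem hx hy)
  rw [hac.sq_mul, hsq x hx, hsq y hy, mul_one] at e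
  exact h.neg_one_ne e

theorem exists_nons_univ (hk : 1 ≤ k) : ∃ t ∈ R, t * t = -1 :=
  h.exists_nons le_rfl (by rw [h.card]; exact Nat.pow_lt_pow_right one_lt_two (by omega))

theorem exists_nons₁ (hk : 2 ≤ k) {x : GL ι F} (hx : x ∈ R) : ∃ t ∈ R, t * t = -1 ∧ Commute t x := by
  obtain ⟨t, ht, e⟩ := h.exists_nons (cenIn_le R x)
    ((Nat.pow_lt_pow_right one_lt_two (by omega)).trans_le (h.card_cen₁ hx))
  exact ⟨t, (mem_cenIn.1 ht).1, e, (mem_cenIn.1 ht).2⟩

theorem exists_nons₂ (hk : 3 ≤ k) {x y : GL ι F} (hx : x ∈ R) (hy : y ∈ R) :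
    ∃ t ∈ R, t * t = -1 ∧ Commute t x ∧ Commute t y := by
  obtain ⟨t, ht, e⟩ := h.exists_nons ((cenIn_le (cenIn R x) y).trans (cenIn_le R x)) (by
    have h1 := h.card_cen₂ hx hy
    have h2 : 2 ^ (k + 1 + 2) ≤ 2 ^ (2 * k) := Nat.pow_le_pow_right two_pos (by omega)
    have h3 : 0 < 2 ^ (k + 1) := pow_pos two_pos _
    rw [pow_succ, pow_succ] at h2; omega)
  obtain ⟨h1, h2⟩ := mem_cenIn.1 ht
  exact ⟨t, (mem_cenIn.1 h1).1, e, (mem_cenIn.1 h1).2, h2⟩

theorem exists_nons₃ (hk : 4 ≤ k) {x y z : GL ι F} (hx : x ∈ R) (hy : y ∈ R) (hz : z ∈ R) :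
    ∃ t ∈ R, t * t = -1 ∧ Commute t x ∧ Commute t y ∧ Commute t z := by
  obtain ⟨t, ht, e⟩ := h.exists_nons
    (((cenIn_le _ z).trans (cenIn_le (cenIn R x) y)).trans (cenIn_le R x)) (by
    have h1 := h.card_cen₃ hx hy hz
    have h2 : 2 ^ (k + 1 + 3) ≤ 2 ^ (2 * k) := Nat.pow_le_pow_right two_pos (by omega)
    have h3 : 0 < 2 ^ (k + 1) := pow_pos two_pos _
    rw [pow_succ, pow_succ, pow_succ] at h2; omega)
  obtain ⟨h1, h3⟩ := mem_cenIn.1 ht
  obtain ⟨h1, h2⟩ := mem_cenIn.1 h1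
  exact ⟨t, (mem_cenIn.1 h1).1, e, (mem_cenIn.1 h1).2, h2, h3⟩

/-- An element of square minus one commuting with two given ones and avoiding two given classes. -/
theorem exists_nons_avoid (hk : 3 ≤ k) {x y u v s : GL ι F} (hx : x ∈ R) (hy : y ∈ R) (hu : u ∈ R) (hv : v ∈ R)
    (hs : s ∈ R) :
    ∃ t ∈ R, t * t = -1 ∧ Commute t x ∧ Commute t y ∧ t * u⁻¹ ∉ scalars ι F ∧ t * v⁻¹ ∉ scalars ι F ∧
      t * s⁻¹ ∉ scalars ι F := by
  classical
  by_contra! hc
  set D := cenIn (cenIn R x) y with hDdef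
  have hDR : D ≤ R := (cenIn_le (cenIn R x) y).trans (cenIn_le R x)
  haveI := h.finite
  haveI : Finite D := Finite.of_injective (Subgroup.inclusion hDR) (Subgroup.inclusion_injective hDR)
  have hcard : 2 ^ (k + 1) < Nat.card D := by
    have h1 : 2 ^ (2 * k) ≤ 2 * Nat.card D := h.card_cen₂ hx hy
    have h2 : 2 ^ (k + 1 + 2) ≤ 2 ^ (2 * k) := Nat.pow_le_pow_right two_pos (by omega)
    have h3 : 0 < 2 ^ (k + 1) := pow_pos two_pos _
    rw [pow_succ, pow_succ] at h2
    omega
  obtain ⟨w, hw, ew⟩ := h.exists_nons hDR hcard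
  let B : Finset (GL ι F) := {u, -u, v, -v, s, -s}
  let T : Finset (GL ι F) := B ∪ B.image (w⁻¹ * ·)
  have hB : ∀ t ∈ D, t * t = -1 → t ∈ B := by
    intro t ht e
    obtain ⟨h1, h2⟩ := mem_cenIn.1 ht
    obtain ⟨h0, h1⟩ := mem_cenIn.1 h1
    by_cases hu' : t * u⁻¹ ∈ scalars ι F
    · rcases h.eq_or_neg_of_scalar h0 hu hu' with rfl | rfl <;> simp [B]
    by_cases hv' : t * v⁻¹ ∈ scalars ι F
    · rcases h.eq_or_neg_of_scalar h0 hv hv' with rfl | rfl <;> simp [B]
    rcases h.eq_or_neg_of_scalar h0 hs (hc t h0 e h1 h2 hu' hv') with rfl | rfl <;> simp [B]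
  -- everything else anticommutes with `w`
  have hac : ∀ e ∈ D, e ∉ T → Ac w e := by
    intro e he hn
    rw [Finset.mem_union, not_or, Finset.mem_image] at hn
    refine (h.sign w (hDR hw) e (hDR he)).resolve_left fun c => h.neg_one_ne ?_
    have h1 : w * e * (w * e) = 1 := (h.sq _ (hDR (mul_mem hw he))).resolve_right fun e' =>
      hn.2 ⟨_, hB _ (mul_mem hw he) e', inv_mul_cancel_left w e⟩
    rwa [commute_sq_mul c, ew, (h.sq e (hDR he)).resolve_right fun e' => hn.1 (hB e he e'), mul_one] at h1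
  have hTc : T.card ≤ 12 := by
    refine (Finset.card_union_le _ _).trans ?_
    have h1 : B.card ≤ 6 := Finset.card_le_six
    have h2 := (Finset.card_image_le (s := B) (f := (w⁻¹ * ·))).trans h1
    omega
  have h5 : 2 ^ 6 ≤ 2 * Nat.card D :=
    (Nat.pow_le_pow_right two_pos (by omega)).trans (h.card_cen₂ hx hy)
  have pick : ∀ U : Finset (GL ι F), U.card ≤ 24 → ∃ e ∈ D, e ∉ U := by
    intro U hU
    by_contra! hall
    have h1 := Set.ncard_le_ncard (show (D : Set (GL ι F)) ⊆ (U : Set (GL ι F)) from hall) (Finset.finite_toSet _)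
    rw [← Nat.card_coe_set_eq, Set.ncard_coe_finset] at h1
    have h1' : Nat.card D ≤ U.card := h1
    omega
  obtain ⟨e, he, hen⟩ := pick T (by omega)
  obtain ⟨f, hf, hfn⟩ := pick (T ∪ T.image (e⁻¹ * ·)) (by
    refine (Finset.card_union_le _ _).trans ?_
    have := (Finset.card_image_le (s := T) (f := (e⁻¹ * ·))).trans hTc
    omega)
  rw [Finset.mem_union, not_or, Finset.mem_image] at hfn
  exact h.pre.not_both (commute_of_ac_ac (hac e he hen) (hac f hf hfn.1))
    (hac _ (mul_mem he hf) fun hm => hfn.2 ⟨_, hm, inv_mul_cancel_left e f⟩)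

/-- A non-scalar involution commuting with a given element. -/
theorem exists_sing (hk : 2 ≤ k) {x : GL ι F} (hx : x ∈ R) :
    ∃ a ∈ R, a * a = 1 ∧ a ∉ scalars ι F ∧ Commute a x := by
  have h4 : 4 < 2 ^ (2 * k) :=
    lt_of_lt_of_le (show 4 < 2 ^ 4 by norm_num) (Nat.pow_le_pow_right two_pos (by omega))
  rcases h.sq x hx with e | e
  · by_cases hx1 : x ∈ scalars ι F
    · obtain ⟨r, hr, er⟩ := h.exists_nons_univ (by omega)
      obtain ⟨d, hd, hd1, hdr⟩ := h.exists_not_pair (cenIn_le R r) (h4.trans_le (h.card_cen₁ hr)) hr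
      obtain ⟨hdR, hdc⟩ := mem_cenIn.1 hd
      rcases h.sq d hdR with ed | ed
      · exact ⟨d, hdR, ed, hd1, (commute_scalar hx1 d).symm⟩
      refine ⟨d * r, mul_mem hdR hr, by rw [commute_sq_mul hdc, ed, er]; simp, fun hs => hdr ?_,
        (commute_scalar hx1 _).symm⟩
      exact (h.pre.mul_inv_iff hr).2 hs
    · exact ⟨x, hx, e, hx1, Commute.refl x⟩
  · obtain ⟨d, hd, hd1, hdx⟩ := h.exists_not_pair (cenIn_le R x) (h4.trans_le (h.card_cen₁ hx)) hx
    obtain ⟨hdR, hdc⟩ := mem_cenIn.1 hd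
    rcases h.sq d hdR with ed | ed
    · exact ⟨d, hdR, ed, hd1, hdc⟩
    refine ⟨d * x, mul_mem hdR hx, by rw [commute_sq_mul hdc, ed, e]; simp, fun hs => hdx ?_,
      hdc.mul_left (Commute.refl x)⟩
    exact (h.pre.mul_inv_iff hx).2 hs

end IsOp

end CfsgLib.Geo.OrthNorm
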