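import Cfsg.Agent.Lib.Geo.OrthNorm.Part
import Cfsg.Agent.Lib.Geo.OrthPairMaximal
import Cfsg.Agent.Lib.Geo.OrthOverfieldMax

/-!
# Unipotent elements of a centraliser and a moving element generate `Ω`
-/

set_option autoImplicit false
set_option linter.unusedSectionVars false
set_option maxHeartbeats 1000000

namespace CfsgLib.Geo.OrthNorm

open Matrix Cfsg.Geo CfsgLib.Geo.SympNorm
open CfsgLib.Classical CfsgLib.Classical.Quad CfsgLib.Geo.OrthMax
open QuadraticMap (polar polarBilin)

variable {ι : Type} [Fintype ι] [DecidableEq ι] {F : Type*} [Field F]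

/-- Powers of an Eichler transformation. -/
theorem eich_pow {V : Type*} [AddCommGroup V] [Module F V] [FiniteDimensional F V] {Q : QuadraticForm F V}
    (hQ : (polarBilin Q).Nondegenerate) {w a : V} (hw : Q w = 0) (ha : polar Q w a = 0) :
    ∀ j : ℕ, eich hQ hw ha ^ j = eich hQ hw (a := (j : F) • a) (by rw [polar_smul_right', ha, mul_zero])
  | 0 => by
    rw [pow_zero, eich_congr hQ rfl (show ((0 : ℕ) : F) • a = 0 by simp), eich_zero_right]
  | j + 1 => by
    rw [pow_succ, eich_pow hQ hw ha j, eich_mul, eich_congr hQ rfl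
      (show (j : F) • a + a = ((j + 1 : ℕ) : F) • a by push_cast; module)]

/-- `M` is everything when it contains the elements of order `p` commuting with `x`, an element anticommuting with `x`
and an element moving `x` out of `±x`. -/
theorem om_le_of_cen [Fintype F] (hp : (Fintype.card F).Prime) {Γ : Matrix ι ι F} (hΓ : IsSymGram Γ)
    (hn : 10 ≤ Fintype.card ι) {M : Subgroup (GL ι F)} (hMi : M ≤ isoGL Γ) {x r m y : GL ι F} (hxi : x ∈ isoGL Γ)
    (hxx : x * x = -1) (hr : r ∈ M) (hrx : Ac r x) (hm : m ∈ M) (hyx : Ac y x) (hmx : m * x * m⁻¹ = -(x * y))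
    (hcen : ∀ g ∈ isoGL Γ, Commute g x → g ^ Fintype.card F = 1 → g ∈ M) : om Γ ≤ M := by
  classical
  haveI : Nonempty ι := Fintype.card_pos_iff.1 (by omega)
  obtain ⟨i₀⟩ := ‹Nonempty ι›
  set Q := qf Γ with hQdef
  have hQ := hΓ.nondeg
  have h2 := hΓ.two
  let e := oEquiv Q
  have hfr : Module.finrank F (ι → F) = Fintype.card ι := Module.finrank_pi _
  have hn5 : 5 ≤ Module.finrank F (ι → F) := by omega
  set K : Subgroup (OQ Q) := (M.subgroupOf (Cfsg.isometryGroup F (⇑Q))).map e.toMonoidHom with hK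
  have hiso : Cfsg.isometryGroup F (⇑Q) = isoGL Γ := hΓ.iso_eq
  have hmK : ∀ g : Cfsg.isometryGroup F (⇑Q), e g ∈ K ↔ (g : GL ι F) ∈ M := fun g => by
    rw [hK, Subgroup.mem_map_equiv, MulEquiv.symm_apply_apply, Subgroup.mem_subgroupOf]
  set X := (x : Matrix ι ι F) with hX
  let J : (ι → F) →ₗ[F] (ι → F) := Matrix.toLin' X
  have hJ : ∀ v, J v = X *ᵥ v := fun v => Matrix.toLin'_apply _ _
  have hXX : ∀ v, X *ᵥ (X *ᵥ v) = -v := fun v => by
    rw [mulVec_mulVec, hX, ← Units.val_mul, hxx, Units.val_neg, Units.val_one, neg_mulVec, one_mulVec]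
  have hQX : ∀ v, Q (X *ᵥ v) = Q v := fun v => by
    rw [hQdef, qf_apply, qf_apply, mulVec_dot, hX, mem_isoGL.1 hxi]
  -- commuting with `x` in vectors
  have hcomm : ∀ g : Cfsg.isometryGroup F (⇑Q), (∀ v, (e g : (ι → F) ≃ₗ[F] (ι → F)) (X *ᵥ v) =
      X *ᵥ (e g : (ι → F) ≃ₗ[F] (ι → F)) v) → Commute (g : GL ι F) x := by
    intro g hg
    refine Units.ext (Matrix.toLin'.injective (LinearMap.ext fun v => ?_))
    have := hg v
    rw [oEquiv_apply, oEquiv_apply] at this
    simpa [hX] using this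
  -- unipotent elements commuting with `x`
  have heich : ∀ {w a : ι → F} (hw : Q w = 0) (ha : polar Q w a = 0),
      (∀ v, (eich hQ hw ha : (ι → F) ≃ₗ[F] (ι → F)) (X *ᵥ v) = X *ᵥ (eich hQ hw ha : (ι → F) ≃ₗ[F] (ι → F)) v) →
        eich hQ hw ha ∈ K := by
    intro w a hw ha hc
    obtain ⟨g, hg⟩ := e.surjective (eich hQ hw ha)
    rw [← hg, hmK]
    refine hcen _ (hiso ▸ g.2) (hcomm g (by rw [hg]; exact hc)) ?_
    have h1 : g ^ Fintype.card F = 1 := e.injective (by
      rw [map_pow, hg, map_one, eich_pow, eich_congr hQ rfl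
        (show (Fintype.card F : F) • a = 0 by rw [FiniteField.cast_card_eq_zero, zero_smul]), eich_zero_right])
    rw [← SubgroupClass.coe_pow, h1, OneMemClass.coe_one]
  have hE : eichGroup hQ ≤ K → om Γ ≤ M := by
    intro hEK g hg
    rw [← hΓ.omega_eq] at hg
    obtain ⟨g', hg', rfl⟩ := hg
    have h1 : e g' ∈ eichGroup hQ := by
      rw [eichGroup_eq_commutator hQ hn5]
      have := Subgroup.mem_map_of_mem e.toMonoidHom hg'
      rwa [Cfsg.Omega, commutator_def, Subgroup.map_commutator, Subgroup.map_top_of_surjective _ e.surjective,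
        ← commutator_def] at this
    exact (hmK g').1 (hEK h1)
  have hmem : ∀ {g}, g ∈ M → g ∈ Cfsg.isometryGroup F (⇑Q) := fun hg => hiso.symm ▸ hMi hg
  have hyne : ∀ a b : F, ((x * y : GL ι F) : Matrix ι ι F) ≠ a • (1 : Matrix ι ι F) + b • X := by
    intro a b e'
    have hc : Commute (x * y) x := Units.ext (by
      rw [Units.val_mul, Units.val_mul x (x * y), e', ← hX, add_mul, mul_add, smul_mul_assoc, mul_smul_comm,
        smul_mul_assoc, mul_smul_comm, one_mul, mul_one])
    have := Ac.mul_left' (Commute.refl x) hyx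
    have e1 : ((x * y * x : GL ι F) : Matrix ι ι F) = -((x * y * x : GL ι F) : Matrix ι ι F) := by
      conv_lhs => rw [show x * y * x = -(x * (x * y)) from this, Units.val_neg, ← hc.eq]
    have e2 : (2 : F) • ((x * y * x : GL ι F) : Matrix ι ι F) = 0 := by
      rw [two_smul]; nth_rewrite 2 [e1]; exact add_neg_cancel _
    have e3 := congrArg (fun Z => Z * (((x * y * x)⁻¹ : GL ι F) : Matrix ι ι F)) ((smul_eq_zero.1 e2).resolve_left h2)
    rw [zero_mul, Units.mul_inv] at e3
    simpa using congrFun₂ e3 i₀ i₀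
  have hmX : ∀ v, (m : Matrix ι ι F) *ᵥ (X *ᵥ v) = -(((x * y : GL ι F) : Matrix ι ι F) *ᵥ ((m : Matrix ι ι F) *ᵥ v)) := by
    intro v
    rw [mulVec_mulVec, hX, ← Units.val_mul, mul_inv_eq_iff_eq_mul.1 hmx, Units.val_mul, Units.val_neg,
      ← mulVec_mulVec, neg_mulVec]
  have hrX : ∀ v, (r : Matrix ι ι F) *ᵥ (X *ᵥ v) = -(X *ᵥ ((r : Matrix ι ι F) *ᵥ v)) := by
    intro v
    rw [mulVec_mulVec, mulVec_mulVec, hX, ← Units.val_mul, show r * x = -(x * r) from hrx, Units.val_neg, neg_mulVec,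
      Units.val_mul]
  by_cases hi : IsSquare (-1 : F)
  swap
  · -- the overfield
    have hpolJ : ∀ v, polar Q v (J v) = 0 := by
      intro v
      have h1 : polar Q (X *ᵥ v) (X *ᵥ (X *ᵥ v)) = polar Q v (X *ᵥ v) := by
        simp only [QuadraticMap.polar, ← mulVec_add, hQX]
      rw [hXX, QuadraticMap.polar_neg_right, QuadraticMap.polar_comm] at h1
      rw [hJ]
      exact (mul_eq_zero.1 (show (2 : F) * polar Q v (X *ᵥ v) = 0 by linear_combination -h1)).resolve_left h2
    have h : OrthOverfield.IsOverfield Q J 0 1 :=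
      ⟨hQ, by omega, fun v => by rw [hJ, hJ, hXX, zero_smul, zero_sub, one_smul],
        fun a ha => hi ⟨a, by linear_combination -ha⟩, fun v => by rw [hJ, hQX, one_mul],
        fun v => by rw [hpolJ, zero_mul]⟩
    refine hE (OrthOverfield.le_of_not_normalises h (fun hw ha hc => heich hw ha (fun v => by
      simpa [hJ] using hc v)) (by omega) (g := e ⟨m, hmem hm⟩) ((hmK _).2 hm) ?_)
    rintro ⟨a, b, hab⟩
    refine hyne (-a) (-b) (Matrix.toLin'.injective (LinearMap.ext fun v => ?_))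
    obtain ⟨u, rfl⟩ : ∃ u, (m : Matrix ι ι F) *ᵥ u = v := ⟨((m⁻¹ : GL ι F) : Matrix ι ι F) *ᵥ v, by
      rw [mulVec_mulVec, Units.mul_inv, one_mulVec]⟩
    have h1 := hab u
    simp only [hJ, e, oEquiv_apply] at h1
    rw [hmX] at h1
    rw [Matrix.toLin'_apply, Matrix.toLin'_apply, add_mulVec, smul_mulVec, smul_mulVec, one_mulVec, neg_smul,
      neg_smul, ← neg_add, ← h1, neg_neg]
  -- the pair of eigenspaces
  obtain ⟨i, hi⟩ := hi
  have hi' : i * i = -1 := hi.symm
  have hi0 : i ≠ 0 := fun e0 => by rw [e0] at hi'; simp at hi'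
  let L : F → Submodule F (ι → F) := fun c => LinearMap.ker (Matrix.toLin' (X - c • 1))
  have hL : ∀ c v, v ∈ L c ↔ X *ᵥ v = c • v := fun c v => by
    simp [L, LinearMap.mem_ker, sub_mulVec, smul_mulVec, one_mulVec, sub_eq_zero]
  have hsplit : ∀ v, ∃ a ∈ L i, ∃ b ∈ L (-i), a + b = v := by
    intro v
    refine ⟨(2 : F)⁻¹ • (v - i • (X *ᵥ v)), (hL _ _).2 ?_, (2 : F)⁻¹ • (v + i • (X *ᵥ v)), (hL _ _).2 ?_, ?_⟩
    · rw [mulVec_smul, mulVec_sub, mulVec_smul, hXX]
      match_scalars <;>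
        first
          | ring1
          | linear_combination (2 : F)⁻¹ * hi'
          | linear_combination -(2 : F)⁻¹ * hi'
    · rw [mulVec_smul, mulVec_add, mulVec_smul, hXX]
      match_scalars <;>
        first
          | ring1
          | linear_combination (2 : F)⁻¹ * hi'
          | linear_combination -(2 : F)⁻¹ * hi'
    · match_scalars
      · field_simp
        ring
      · ring
  have hdisj : Disjoint (L i) (L (-i)) := by
    rw [Submodule.disjoint_def]
    intro v hv hv'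
    have e1 : (2 * i) • v = 0 := by
      have := ((hL _ _).1 hv).symm.trans ((hL _ _).1 hv')
      linear_combination (norm := module) this
    exact (smul_eq_zero.1 e1).resolve_left (mul_ne_zero h2 hi0)
  have hcompl : IsCompl (L i) (L (-i)) := ⟨hdisj, codisjoint_iff.2 (eq_top_iff.2 fun v _ => by
    obtain ⟨a, ha, b, hb, rfl⟩ := hsplit v
    exact Submodule.add_mem_sup ha hb)⟩
  have hswap : ∀ c, ∀ v ∈ L c, (r : Matrix ι ι F) *ᵥ v ∈ L (-c) := by
    intro c v hv
    rw [hL, ← neg_neg (X *ᵥ ((r : Matrix ι ι F) *ᵥ v)), ← hrX, (hL _ _).1 hv, mulVec_smul, neg_smul]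
  have hrle : ∀ c, Module.finrank F (L c) ≤ Module.finrank F (L (-c)) := fun c =>
    LinearMap.finrank_le_finrank_of_injective
      (f := (Matrix.toLin' (r : Matrix ι ι F)).restrict (fun v hv => by rw [Matrix.toLin'_apply]; exact hswap c v hv))
      fun u v huv => Subtype.ext (Matrix.mulVec_injective_iff_isUnit.2 r.isUnit (by
        simpa [LinearMap.restrict_apply, Subtype.ext_iff] using huv))
  have hdim : Module.finrank F (L i) = Module.finrank F (L (-i)) :=
    le_antisymm (hrle i) (by have := hrle (-i); rwa [neg_neg] at this)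
  have hsum := Submodule.finrank_add_eq_of_isCompl hcompl
  have hsing : ∀ c : F, c * c = -1 → ∀ v ∈ L c, Q v = 0 := by
    intro c hc v hv
    have := hQX v
    rw [(hL _ _).1 hv, apply_smul, hc] at this
    exact (mul_eq_zero.1 (show (2 : F) * Q v = 0 by linear_combination -this)).resolve_left h2
  have hP : OrthPair.IsPair Q (Module.finrank F (L i)) (L i) (L (-i)) :=
    ⟨hcompl, rfl, hdim.symm, hsing i hi', hsing (-i) (by rw [neg_mul_neg, hi']), by omega⟩
  have hpres : ∀ g : Cfsg.isometryGroup F (⇑Q), OrthPair.Pres (L i) (L (-i)) (e g) →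
      (∀ v, ((g : GL ι F) : Matrix ι ι F) *ᵥ (X *ᵥ v) = X *ᵥ (((g : GL ι F) : Matrix ι ι F) *ᵥ v)) ∨
        ∀ v, ((g : GL ι F) : Matrix ι ι F) *ᵥ (X *ᵥ v) = -(X *ᵥ (((g : GL ι F) : Matrix ι ι F) *ᵥ v)) := by
    intro g hg
    rcases hg with ⟨h0, h1⟩ | ⟨h0, h1⟩
    · left
      intro v
      obtain ⟨a, ha, b, hb, rfl⟩ := hsplit v
      have ga := h0 a ha
      have gb := h1 b hb
      rw [oEquiv_apply, hL] at ga gb
      simp only [mulVec_add, (hL _ _).1 ha, (hL _ _).1 hb, mulVec_smul, ga, gb]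
    · right
      intro v
      obtain ⟨a, ha, b, hb, rfl⟩ := hsplit v
      have ga := h0 a ha
      have gb := h1 b hb
      rw [oEquiv_apply, hL] at ga gb
      simp only [mulVec_add, (hL _ _).1 ha, (hL _ _).1 hb, mulVec_smul, ga, gb]
      module
  refine hE (OrthPair.le_of_not_pres hQ hP (K := K) (fun {w a} hw ha hp' => ?_) ⟨e ⟨r, hmem hr⟩, (hmK _).2 hr,
    fun v hv => by rw [oEquiv_apply]; exact hswap i v hv,
    fun v hv => by
      have := hswap (-i) v hv
      rw [neg_neg] at this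
      rw [oEquiv_apply]; exact this⟩ (g := e ⟨m, hmem hm⟩) ((hmK _).2 hm) fun hp' => ?_)
  · obtain ⟨g, hg⟩ := e.surjective (eich hQ hw ha)
    have h1 : g ^ Fintype.card F = 1 := e.injective (by
      rw [map_pow, hg, map_one, eich_pow, eich_congr hQ rfl
        (show (Fintype.card F : F) • a = 0 by rw [FiniteField.cast_card_eq_zero, zero_smul]), eich_zero_right])
    have h1' : (g : GL ι F) ^ Fintype.card F = 1 := by
      rw [← SubgroupClass.coe_pow, h1, OneMemClass.coe_one]
    rw [← hg, hmK]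
    refine hcen _ (hiso ▸ g.2) ?_ h1'
    have hpc : Commute (g : GL ι F) x ∨ Ac (g : GL ι F) x := by
      rcases hpres g (hg ▸ hp') with hc | hc
      · exact Or.inl (Units.ext (Matrix.toLin'.injective (LinearMap.ext fun v => by simpa [hX] using hc v)))
      · exact Or.inr (Units.ext (Matrix.toLin'.injective (LinearMap.ext fun v => by
          simpa [hX, neg_mulVec] using hc v)))
    have hg2 : Commute ((g : GL ι F) * g) x := by
      rcases hpc with hc | hc
      · exact hc.mul_left hc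
      · exact (commute_of_ac_ac hc.symm hc.symm).symm
    obtain ⟨j, hj⟩ := hp.odd_of_ne_two (fun e2 => h2 (by
      have := FiniteField.cast_card_eq_zero F
      rw [e2] at this; exact_mod_cast this))
    have : (g : GL ι F) = ((g : GL ι F) * g) ^ (j + 1) := by
      rw [← pow_two, ← pow_mul, show 2 * (j + 1) = Fintype.card F + 1 by omega, pow_succ, h1', one_mul]
    rw [this]
    exact hg2.pow_left _
  · refine (hpres ⟨m, hmem hm⟩ hp').elim (fun hc => hyne 0 (-1) ?_) (fun hc => hyne 0 1 ?_)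
    all_goals
      refine Matrix.toLin'.injective (LinearMap.ext fun v => ?_)
      obtain ⟨u, rfl⟩ : ∃ u, (m : Matrix ι ι F) *ᵥ u = v := ⟨((m⁻¹ : GL ι F) : Matrix ι ι F) *ᵥ v, by
        rw [mulVec_mulVec, Units.mul_inv, one_mulVec]⟩
      have h1 : (m : Matrix ι ι F) *ᵥ (X *ᵥ u) = _ := hc u
      rw [hmX] at h1
      simp only [Matrix.toLin'_apply, zero_smul, zero_add, neg_smul, one_smul, neg_mulVec]
    · exact neg_eq_iff_eq_neg.1 h1
    · exact neg_inj.1 h1

end CfsgLib.Geo.OrthNorm
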