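import Cfsg.Agent.Lib.Geo.OrthNorm.Fields
import Cfsg.Agent.Lib.Geo.SympNorm.SpCent
import Mathlib.GroupTheory.Transfer
import Mathlib.GroupTheory.FixedPointFree

/-!
# Centralisers of elements of `R` in an overgroup inside the isometries
-/

set_option autoImplicit false
set_option linter.unusedSectionVars false
set_option maxHeartbeats 1000000

namespace CfsgLib.Geo.OrthNorm

open Matrix Cfsg.Geo CfsgLib.Geo.SympNorm
open scoped commutatorElement

/-- A self-normalising elementary abelian two-subgroup containing a four-group whose involutions have their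
centralisers inside it is everything. -/
theorem mem_of_selfnormalizing {G : Type*} [Group G] [Finite G] {V : Subgroup G}
    (hab : ∀ x ∈ V, ∀ y ∈ V, Commute x y) (hsq : ∀ x ∈ V, x * x = 1)
    (hN : ∀ g, (∀ v ∈ V, g * v * g⁻¹ ∈ V) → g ∈ V) {s t : G} (hs : s ∈ V) (ht : t ∈ V)
    (hcs : ∀ g, Commute g s → g ∈ V) (hct : ∀ g, Commute g t → g ∈ V)
    (hcst : ∀ g, Commute g (s * t) → g ∈ V) : ∀ g, g ∈ V := by
  classical
  haveI : Fact (Nat.Prime 2) := ⟨Nat.prime_two⟩
  have hV : IsPGroup 2 V := fun x => ⟨1, Subtype.ext (by rw [pow_one, pow_two]; exact hsq x x.2)⟩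
  obtain ⟨P, hP⟩ := hV.exists_le_sylow
  have hPV : (P : Subgroup G) = V := by
    haveI : Group.IsNilpotent P := P.2.isNilpotent
    by_contra hne
    have hlt : V.subgroupOf (P : Subgroup G) < ⊤ :=
      lt_top_iff_ne_top.2 fun e => hne (le_antisymm (Subgroup.subgroupOf_eq_top.1 e) hP)
    obtain ⟨x, hx, hxn⟩ := SetLike.exists_of_lt (Group.normalizerCondition_of_isNilpotent _ hlt)
    exact hxn (hN (x : G) fun v hv => (Subgroup.mem_normalizer_iff.1 hx ⟨v, hP hv⟩).1 hv)
  have hNC : Subgroup.normalizer ((P : Subgroup G) : Set G) ≤ Subgroup.centralizer ((P : Subgroup G) : Set G) := by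
    intro g hg
    rw [hPV] at hg ⊢
    have hgV := hN g fun v hv => (Subgroup.mem_normalizer_iff.1 hg v).1 hv
    exact Subgroup.mem_centralizer_iff.2 fun v hv => hab v hv g hgV
  set K := (MonoidHom.transferSylow P hNC).ker with hK
  have hc : K.IsComplement' (P : Subgroup G) := MonoidHom.ker_transferSylow_isComplement' P hNC
  have hKV : ∀ x ∈ K, x ∈ V → x = 1 := fun x hx hxV =>
    Subgroup.disjoint_def.1 hc.disjoint hx (hPV.symm ▸ hxV)
  have inv : ∀ u ∈ V, (∀ g, Commute g u → g ∈ V) → ∀ x ∈ K, u * x * u⁻¹ = x⁻¹ := by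
    intro u hu hcu x hx
    have hn : K.Normal := MonoidHom.normal_ker _
    let φ : K →* K := ((MulAut.conj u).toMonoidHom.comp K.subtype).codRestrict K fun y => hn.conj_mem _ y.2 u
    have hφ : ∀ y : K, (φ y : G) = u * y * u⁻¹ := fun y => rfl
    have hfree : MonoidHom.FixedPointFree (⇑φ) := fun y hy => by
      refine Subtype.ext (hKV y y.2 (hcu y ?_))
      have e := congrArg Subtype.val hy
      rw [hφ, mul_inv_eq_iff_eq_mul] at e
      exact e.symm
    have hinv : Function.Involutive φ := fun y => Subtype.ext (by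
      rw [hφ, hφ, show u * (u * (y : G) * u⁻¹) * u⁻¹ = (u * u) * y * (u * u)⁻¹ by group, hsq u hu, one_mul,
        inv_one, mul_one])
    have e := congrArg Subtype.val (congrFun (MonoidHom.FixedPointFree.coe_eq_inv_of_involutive hfree hinv) ⟨x, hx⟩)
    exact e
  have hK1 : K = ⊥ := (Subgroup.eq_bot_iff_forall _).2 fun x hx => by
    refine hKV x hx (hcst x ?_)
    have e1 := inv s hs hcs x hx
    have e2 := inv t ht hct x hx
    have e : s * t * x * (s * t)⁻¹ = x := by
      rw [show s * t * x * (s * t)⁻¹ = s * (t * x * t⁻¹) * s⁻¹ by group, e2,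
        show s * x⁻¹ * s⁻¹ = (s * x * s⁻¹)⁻¹ by group, e1, inv_inv]
    show x * (s * t) = s * t * x
    exact (mul_inv_eq_iff_eq_mul.1 e).symm
  intro g
  have hPtop := Subgroup.isComplement'_bot_left.1 (hK1 ▸ hc)
  rw [← hPV, hPtop]
  exact Subgroup.mem_top g

section Halves

variable {κ : Type} [Fintype κ] [DecidableEq κ] {F : Type*} [Field F] {G : Matrix κ κ F} {k : ℕ}
  {R : Subgroup (GL (κ ⊕ κ) F)}

theorem IsOp.di_mem_normalizer (h : IsOp (fromBlocks G 0 0 G) k R) (ha : aM ∈ R) (hb : bM ∈ R) {n : GL κ F}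
    (hn : n ∈ subgroupNormalizer (SympNorm.half R)) : di n ∈ subgroupNormalizer R := by
  haveI := h.finite
  refine mem_normalizer_of_conj (conj_mem_of h.pre ha hb (fun r hr => ?_) ?_)
  · have hm : n * r * n⁻¹ ∈ SympNorm.half R := (Subgroup.mem_normalizer_iff.1 hn r).1 hr
    refine ⟨?_, ?_⟩
    · rw [show di n * dg (r, r) * (di n)⁻¹ = di (n * r * n⁻¹) by rw [map_mul, map_mul, map_inv]; rfl]
      exact hm
    · rw [show di n * dg (r, -r) * (di n)⁻¹ = di (n * r * n⁻¹) * aM by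
        rw [di_apply, di_apply, dg_inv, aM, ← map_mul, ← map_mul, ← map_mul]; congr 1; simp [mul_assoc]]
      exact mul_mem hm ha
  · rw [(di_commute_bM n).eq, mul_inv_cancel_right]; exact hb

theorem IsOp.kernel_normalizer (h : IsOp (fromBlocks G 0 0 G) k R) (ha : aM ∈ R) (hb : bM ∈ R) {r : GL κ F}
    (hr : r ∈ SympNorm.half R) (hrr : r * r = -1) : dg (r, 1) ∈ subgroupNormalizer R := by
  haveI := h.finite
  have hh := h.pre.half ha hb
  have hinv : r⁻¹ = -r := inv_eq_of_mul_eq_one_right (by rw [mul_neg, hrr, neg_neg])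
  refine mem_normalizer_of_conj (conj_mem_of h.pre ha hb (fun s hs => ?_) ?_)
  · have e : ∀ t : GL κ F, dg (r, 1) * dg (s, t) * (dg (r, 1))⁻¹ = dg (r * s * r⁻¹, t) := fun t => by
      rw [dg_inv, ← map_mul, ← map_mul]; congr 1; simp
    have m1 : dg (s, s) ∈ R := hs
    have m2 : dg (s, -s) ∈ R := by
      rw [show dg (s, -s) = di s * aM by rw [di_apply, aM, ← map_mul]; simp]; exact mul_mem hs ha
    rw [e, e]
    rcases (hh.sign r hr s hs).conj_mem with e' | e' <;> rw [e']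
    · exact ⟨m1, m2⟩
    · refine ⟨?_, ?_⟩
      · rw [show dg (-s, s) = -dg (s, -s) from Units.ext (by simp [dg_val, fromBlocks_neg])]
        exact h.neg_mem m2
      · rw [show dg (-s, -s) = -dg (s, s) from Units.ext (by simp [dg_val, fromBlocks_neg])]
        exact h.neg_mem m1
  · rw [mul_assoc, dg_inv, bM_dg, ← mul_assoc, ← map_mul, Prod.mk_mul_mk, hinv, inv_one, one_mul, mul_one,
      show dg (r, -r) = di r * aM by rw [di_apply, aM, ← map_mul]; simp]
    exact mul_mem (mul_mem hr ha) hb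

theorem inl_mem_om {r : GL κ F} (hr : r ∈ om G) : dg (r, 1) ∈ om (fromBlocks G 0 0 G) := by
  have h : (om G).map (dg.comp (MonoidHom.inl (GL κ F) (GL κ F))) ≤ om (fromBlocks G 0 0 G) := by
    rw [om, Subgroup.map_commutator]
    refine Subgroup.commutator_mono ?_ ?_ <;>
    · rintro _ ⟨y, hy, rfl⟩
      exact dg_mem_iso_iff.2 ⟨hy, one_mem _⟩
  exact h ⟨r, hr, rfl⟩

end Halves

variable {ι : Type} [Fintype ι] [DecidableEq ι] {F : Type*} [Field F]

/-- Centralisers of elements of square minus one act on their centralisers in `R`. -/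
def PartAll (R M : Subgroup (GL ι F)) : Prop :=
  ∀ x ∈ R, x * x = -1 → ∀ g ∈ M, Commute g x → ∀ d ∈ R, Commute d x → g * d * g⁻¹ ∈ R

theorem OCtx.part_or_all [Fintype F] {Γ : Matrix ι ι F} {k : ℕ} {R M : Subgroup (GL ι F)}
    (hp : (Fintype.card F).Prime) (C : OCtx Γ (k + 1) R M) (hk : 3 ≤ k) : PartAll R M ∨ om Γ ≤ M := by
  refine (Classical.em (om Γ ≤ M)).symm.imp (fun hS => ?_) id
  intro x hx hxx g hg hgx d hd hdx
  obtain ⟨a, ha, haa, hax⟩ : ∃ a ∈ R, a * a = 1 ∧ Ac a x := by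
    obtain ⟨a, ha, hxa⟩ := C.op.pre.exists_ac hx (C.op.not_scalar_of_nons hx hxx)
    rcases C.op.sq a ha with e | e
    · exact ⟨a, ha, e, hxa.symm⟩
    · obtain ⟨t, ht, et, hta, htx⟩ := C.op.exists_nons₂ (by omega) ha hx
      exact ⟨a * t, mul_mem ha ht, by rw [commute_sq_mul hta.symm, e, et, neg_mul_neg, one_mul],
        Ac.mul_left hxa.symm htx⟩
  have hbb : a * x * (a * x) = 1 := by rw [hax.sq_mul, haa, hxx, one_mul, neg_neg]
  obtain ⟨n, L, G, hG, ea, eb, C', hback⟩ :=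
    C.exists_coords ha (mul_mem ha hx) haa hbb (Ac.mul_right' (Commute.refl a) hax)
  have ex : coordGL L x = aM * bM := by
    rw [← ea, ← eb, ← map_mul, ← mul_assoc, haa, one_mul]
  rcases part_prime hp hG C' ⟨a, ha, ea⟩ ⟨_, mul_mem ha hx, eb⟩ hk with h1 | h1
  · have hg' : coordGL L g ∈ M.map (coordGL L).toMonoidHom := ⟨g, hg, rfl⟩
    have hd' : coordGL L d ∈ R.map (coordGL L).toMonoidHom := ⟨d, hd, rfl⟩
    obtain ⟨y, hy, e⟩ := h1 (coordGL L g) hg' (ex ▸ hgx.map (coordGL L)) (coordGL L d) hd'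
      (ex ▸ hdx.map (coordGL L))
    rw [← map_inv, ← map_mul, ← map_mul] at e
    exact (coordGL L).injective e ▸ hy
  · exact absurd (hback h1) hS

section Blocks

variable {n k : ℕ} {G : Matrix (Fin n) (Fin n) F} {R M : Subgroup (GL (Fin n ⊕ Fin n) F)}

/-- The centraliser of the sign. -/
theorem cent_block [Fintype F] (hG : IsSymGram G) (C : OCtx (fromBlocks G 0 0 G) (k + 1) R M) (ha : aM ∈ R)
    (hb : bM ∈ R) (hk : 3 ≤ k) (hpart : PartAll R M) :
    ∀ g ∈ M, Commute g aM → g ∈ subgroupNormalizer R := by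
  classical
  have h' := C.op.half hG ha hb
  have hp' := h'.pre
  haveI := h'.finite
  haveI := C.op.finite
  haveI := hp'.nonempty
  set H := half R
  let L : Subgroup (GL (Fin n) F) := M.comap (dg.comp (MonoidHom.inr _ _))
  have hLm : ∀ Q, Q ∈ L ↔ dg (1, Q) ∈ M := fun Q => Iff.rfl
  have hLi : ∀ Q ∈ L, Q ∈ isoGL G := fun Q hQ => (dg_mem_iso_iff.1 (C.sub hQ)).2
  have hbi : (bM : GL (Fin n ⊕ Fin n) F) ∈ isoGL (fromBlocks G 0 0 G) := bM_mem_iso G
  have hdiM : ∀ m ∈ subgroupNormalizer H ⊓ isoGL G, di m ∈ M := by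
    intro m hm
    refine C.above ⟨C.op.di_mem_normalizer ha hb hm.1, ?_⟩
    have e : (di m : GL (Fin n ⊕ Fin n) F) =
        dg (m * m, 1) * (bM * dg (m, 1) * bM⁻¹ * (dg (m, 1))⁻¹) := by
      rw [bM_dg, mul_inv_cancel_right, di_apply, dg_inv, ← map_mul, ← map_mul]
      congr 1
      simp
    rw [e]
    exact mul_mem (inl_mem_om (hG.sq_mem (h'.five_le hk) hm.2))
      (conj_mem_om hbi (dg_mem_iso_iff.2 ⟨hm.2, one_mem _⟩))
  have hconj : ∀ m ∈ subgroupNormalizer H ⊓ isoGL G, ∀ Q ∈ L, m * Q * m⁻¹ ∈ L := by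
    intro m hm Q hQ
    have hdm := hdiM m hm
    rw [hLm, show dg (1, m * Q * m⁻¹) = di m * dg (1, Q) * (di m)⁻¹ by
      rw [di_apply, dg_inv, ← map_mul, ← map_mul]; congr 1; simp]
    exact mul_mem (mul_mem hdm hQ) (inv_mem hdm)
  have hnonsL : ∀ r ∈ H, r * r = -1 → r ∈ L := fun r hr er => by
    rw [hLm]
    exact dg_swap_mem (C.le (by omega) hb)
      (C.above ⟨C.op.kernel_normalizer ha hb hr er, inl_mem_om (h'.le_om hk hr)⟩)
  have hHL : H ≤ L := by
    intro r hr
    rcases h'.sq r hr with e | e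
    · obtain ⟨t, ht, et, htr⟩ := h'.exists_nons₁ (by omega) hr
      have h1 := hnonsL (r * t) (mul_mem hr ht) (by rw [commute_sq_mul htr.symm, e, et, one_mul])
      have := mul_mem h1 (inv_mem (hnonsL t ht et))
      rwa [mul_inv_cancel_right] at this
    · exact hnonsL r hr e
  -- commuting exactly with an element of square minus one
  have hfix1 : ∀ Q ∈ L, ∀ s ∈ H, s * s = -1 → Commute Q s → Q ∈ H := by
    intro Q hQ s hs es hQs
    have hxx : di s * di s = -1 := by rw [← map_mul, es, di_neg, map_one]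
    have h1 := hpart (di s) hs hxx (dg (1, Q)) hQ (by
      rw [di_apply]; exact Commute.map (Commute.prod (Commute.one_left s) hQs) dg) bM hb (di_commute_bM s).symm
    rw [mul_assoc, dg_inv, bM_dg, ← mul_assoc, ← map_mul, Prod.mk_mul_mk, inv_one, one_mul, mul_one] at h1
    have h2 := mul_mem h1 hb
    rw [mul_assoc, bM_sq, mul_one] at h2
    obtain ⟨r, hr, e | e⟩ := C.op.pre.exists_half ha hb h2 (dg_commute_aM _ _)
    · have e' := congrArg (fun g : GL (Fin n ⊕ Fin n) F => (g : Matrix (Fin n ⊕ Fin n) (Fin n ⊕ Fin n) F).toBlocks₂₂) e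
      simp [dg_val] at e'
      rw [show Q = r from Units.ext e']; exact hr
    · have e' := congrArg (fun g : GL (Fin n ⊕ Fin n) F => (g : Matrix (Fin n ⊕ Fin n) (Fin n ⊕ Fin n) F).toBlocks₂₂) e
      simp [dg_val] at e'
      rw [show Q = -r from Units.ext (by rw [Units.val_neg]; exact e')]; exact h'.neg_mem hr
  have hfix : ∀ Q ∈ L, ∀ d ∈ H, d * d = -1 → PC Q d → Q ∈ H := by
    intro Q hQ d hd ed hp
    rcases hp with e | e
    · exact hfix1 Q hQ d hd ed e
    · obtain ⟨f, hf, hdf⟩ := hp'.exists_ac hd (h'.not_scalar_of_nons hd ed)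
      have := mul_mem (hfix1 _ (mul_mem hQ (hHL hf)) d hd ed (commute_of_ac_ac e.symm hdf).symm) (inv_mem hf)
      rwa [mul_inv_cancel_right] at this
  have hLN : L ⊓ subgroupNormalizer H ≤ H := h'.twist_le hk _ (fun Q hQ => ⟨hQ.2, hLi Q hQ.1⟩)
    (fun m hm Q hQ => ⟨hconj m hm Q hQ.1, mul_mem (mul_mem hm.1 hQ.2) ((subgroupNormalizer H).inv_mem hm.1)⟩)
    fun Q hQ => hfix Q hQ.1
  -- the block is `H`
  have hLH : L ≤ H := by
    haveI : Finite (GL (Fin n) F ⧸ scalars (Fin n) F) := Quotient.finite _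
    let V : Subgroup (L.map bar) := (H.map bar).subgroupOf (L.map bar)
    have hback : ∀ Q ∈ L, bar Q ∈ H.map bar → Q ∈ H := by
      rintro Q hQ ⟨r, hr, e⟩
      have h1 : Q * r⁻¹ ∈ scalars (Fin n) F := by rw [← bar_eq_one, map_mul, map_inv, e, mul_inv_cancel]
      have h2 := h'.mem_of_scalar h1 hr (by rw [inv_mul_cancel_right]; exact hLi Q hQ)
      rwa [inv_mul_cancel_right] at h2
    have hV : ∀ {Q} (hQ : Q ∈ L), (⟨bar Q, Subgroup.mem_map_of_mem _ hQ⟩ : L.map bar) ∈ V ↔ Q ∈ H := fun {Q} hQ =>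
      ⟨fun h => hback Q hQ h, fun h => Subgroup.mem_map_of_mem _ h⟩
    have hcen : ∀ d ∈ H, d * d = -1 → ∀ g : L.map bar, Commute (g : GL (Fin n) F ⧸ scalars (Fin n) F) (bar d) →
        g ∈ V := by
      rintro d hd ed ⟨_, Q, hQ, rfl⟩ hc
      refine (hV hQ).2 (hfix Q hQ d hd ed ((hp'.pc_iff hd).2 ?_))
      rw [map_mul, map_mul, map_mul, map_inv, map_inv, hc.eq, mul_inv_cancel_right, mul_inv_cancel]
    obtain ⟨s, hs, es⟩ := h'.exists_nons_univ (by omega)
    obtain ⟨t, ht, et, hst⟩ : ∃ t ∈ H, t * t = -1 ∧ Ac s t := by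
      obtain ⟨d, hd, hsd⟩ := hp'.exists_ac hs (h'.not_scalar_of_nons hs es)
      rcases h'.sq d hd with e | e
      · obtain ⟨u, hu, eu, hus, hud⟩ := h'.exists_nons₂ hk hs hd
        exact ⟨d * u, mul_mem hd hu, by rw [commute_sq_mul hud.symm, e, eu, one_mul], hsd.mul_right hus.symm⟩
      · exact ⟨d, hd, e, hsd⟩
    let S : L.map bar := ⟨bar s, Subgroup.mem_map_of_mem _ (hHL hs)⟩
    let T : L.map bar := ⟨bar t, Subgroup.mem_map_of_mem _ (hHL ht)⟩
    have hall := mem_of_selfnormalizing (V := V) (s := S) (t := T)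
      (by
        rintro x ⟨u, hu, eu⟩ y ⟨v, hv, ev⟩
        refine Subtype.ext ?_
        change (x : GL (Fin n) F ⧸ scalars (Fin n) F) * y = y * x
        rw [show (x : GL (Fin n) F ⧸ scalars (Fin n) F) = bar u from eu.symm,
          show (y : GL (Fin n) F ⧸ scalars (Fin n) F) = bar v from ev.symm]
        exact hp'.bar_comm hu hv)
      (by
        rintro x ⟨u, hu, eu⟩
        refine Subtype.ext ?_
        change (x : GL (Fin n) F ⧸ scalars (Fin n) F) * x = 1
        rw [show (x : GL (Fin n) F ⧸ scalars (Fin n) F) = bar u from eu.symm]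
        exact hp'.bar_sq hu)
      (by
        rintro ⟨_, Q, hQ, rfl⟩ hn
        refine (hV hQ).2 (hLN ⟨hQ, mem_normalizer_of_conj fun r hr => ?_⟩)
        refine hback _ (mul_mem (mul_mem hQ (hHL hr)) (inv_mem hQ)) ?_
        rw [map_mul, map_mul, map_inv]
        exact hn ⟨bar r, Subgroup.mem_map_of_mem _ (hHL hr)⟩ (Subgroup.mem_map_of_mem _ hr))
      ((hV (hHL hs)).2 hs) ((hV (hHL ht)).2 ht)
      (fun g hg => hcen s hs es g (congrArg Subtype.val hg.eq))
      (fun g hg => hcen t ht et g (congrArg Subtype.val hg.eq))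
      (fun g hg => hcen (s * t) (mul_mem hs ht) (by rw [hst.sq_mul, es, et, neg_mul_neg, one_mul]) g (by
        rw [map_mul]; exact congrArg Subtype.val hg.eq))
    exact fun Q hQ => (hV hQ).1 (hall _)
  intro g hg hga
  obtain ⟨y, z, rfl⟩ := exists_dg C.op.gram.two hga
  have hnorm : ∀ {y z : GL (Fin n) F}, dg (y, z) ∈ M → z ∈ subgroupNormalizer H := fun {y z} hyz =>
    mem_normalizer_of_conj fun r hr => hLH (by
      rw [hLm, show dg (1, z * r * z⁻¹) = dg (y, z) * dg (1, r) * (dg (y, z))⁻¹ by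
        rw [dg_inv, ← map_mul, ← map_mul]; congr 1; simp]
      exact mul_mem (mul_mem hyz (hHL hr)) (inv_mem hyz))
  have hyN : y ∈ subgroupNormalizer H := hnorm (dg_swap_mem (C.le (by omega) hb) hg)
  have hyi := (dg_mem_iso_iff.1 (C.sub hg)).1
  have hdy : di y ∈ subgroupNormalizer R := C.op.di_mem_normalizer ha hb hyN
  have hQ : dg (1, y⁻¹ * z) ∈ M := by
    rw [show dg (1, y⁻¹ * z) = (di y)⁻¹ * dg (y, z) by rw [di_apply, dg_inv, ← map_mul]; simp]
    exact mul_mem (inv_mem (hdiM y ⟨hyN, hyi⟩)) hg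
  rw [show dg (y, z) = di y * dg (1, y⁻¹ * z) by rw [di_apply, ← map_mul]; simp]
  refine mul_mem hdy ?_
  set Q := y⁻¹ * z
  have hQH : Q ∈ H := hLH hQ
  refine mem_normalizer_of_conj (conj_mem_of C.op.pre ha hb (fun s hs => ?_) ?_)
  · have m1 : dg (s, s) ∈ R := hs
    have m2 : dg (s, -s) ∈ R := by
      rw [show dg (s, -s) = di s * aM by rw [di_apply, aM, ← map_mul]; simp]; exact mul_mem hs ha
    have e1 : ∀ t : GL (Fin n) F, dg (1, Q) * dg (s, t) * (dg (1, Q))⁻¹ = dg (s, Q * t * Q⁻¹) := fun t => by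
      rw [dg_inv, ← map_mul, ← map_mul]; congr 1; simp
    rw [e1, e1, show Q * -s * Q⁻¹ = -(Q * s * Q⁻¹) by rw [mul_neg, neg_mul]]
    rcases (h'.sign Q hQH s hs).conj_mem with e | e <;> rw [e]
    · exact ⟨m1, m2⟩
    · rw [neg_neg]; exact ⟨m2, m1⟩
  · rw [mul_assoc, dg_inv, bM_dg, ← mul_assoc, ← map_mul, Prod.mk_mul_mk, inv_one, one_mul, mul_one]
    refine mul_mem ?_ hb
    rcases h'.sq Q hQH with e | e
    · rw [inv_eq_of_mul_eq_one_right e]; exact hQH
    · rw [show Q⁻¹ = -Q from inv_eq_of_mul_eq_one_right (by rw [mul_neg, e, neg_neg]),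
        show dg (-Q, Q) = -(di Q * aM) by
          refine Units.ext ?_
          simp [di_apply, dg_val, aM_val, fromBlocks_multiply, fromBlocks_neg]]
      exact C.op.neg_mem (mul_mem hQH ha)

end Blocks

/-- Centralisers of non-scalar elements normalise. -/
theorem OCtx.cent [Fintype F] {Γ : Matrix ι ι F} {k : ℕ} {R M : Subgroup (GL ι F)} (hp : (Fintype.card F).Prime)
    (C : OCtx Γ (k + 1) R M) (hk : 3 ≤ k) (hS : ¬ om Γ ≤ M) :
    ∀ g ∈ M, ∀ a ∈ R, a ∉ scalars ι F → PC g a → g ∈ subgroupNormalizer R := by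
  have hRM : R ≤ M := C.le (by omega)
  have sing : ∀ g ∈ M, ∀ a ∈ R, a * a = 1 → a ∉ scalars ι F → PC g a → g ∈ subgroupNormalizer R := by
    intro g hg a ha haa ha1 hga
    obtain ⟨b, hb, hbb, hab⟩ := C.op.exists_partner ha haa ha1
    obtain ⟨n, L, G, hG, ea, eb, C', hback⟩ := C.exists_coords ha hb haa hbb hab
    have hS' : ¬ om (fromBlocks G 0 0 G) ≤ M.map (coordGL L).toMonoidHom := fun h => hS (hback h)
    have h1 := cent_block hG C' ⟨a, ha, ea⟩ ⟨b, hb, eb⟩ hk ((C'.part_or_all hp hk).resolve_right hS')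
    rcases hga with e | e
    · exact (coord_mem_normalizer L).1 (h1 _ ⟨g, hg, rfl⟩ (ea ▸ e.map (coordGL L)))
    · have h2 := (coord_mem_normalizer L).1 (h1 _ ⟨b * g, mul_mem (hRM hb) hg, rfl⟩
        (ea ▸ (commute_of_ac_ac hab e.symm).symm.map (coordGL L)))
      have := mul_mem (inv_mem (show b ∈ subgroupNormalizer R from Subgroup.le_normalizer hb)) h2
      rwa [inv_mul_cancel_left] at this
  intro g hg x hx hx1 hgx
  rcases C.op.sq x hx with hxx | hxx
  · exact sing g hg x hx hxx hx1 hgx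
  obtain ⟨e, he, hxe⟩ := C.op.pre.exists_ac hx hx1
  have main : ∀ g ∈ M, Commute g x → g ∈ subgroupNormalizer R := by
    intro g hg hgx
    obtain ⟨a, ha, haa, ha1, hax⟩ := C.op.exists_sing (by omega) hx
    have hr : g * a * g⁻¹ ∈ R := ((C.part_or_all hp hk).resolve_right hS) x hx hxx g hg hgx a ha hax
    have hr1 : g * a * g⁻¹ ∉ scalars ι F := fun h => ha1 ((conj_mem_scalars g).1 h)
    have hrr : g * a * g⁻¹ * (g * a * g⁻¹) = a * a := by
      rw [show g * a * g⁻¹ * (g * a * g⁻¹) = g * (a * a) * g⁻¹ by group, scalar_conj (C.op.pre.sq_mem ha)]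
    obtain ⟨m, hm, hme⟩ := C.op.transitive (by omega) hr ha hr1 ha1 hrr
    have h1 := sing (m * g) (mul_mem (C.above hm) hg) a ha haa ha1 (pc_of_scalar (C.op.pre.sq_mem ha)
      (by rwa [show m * g * a * (m * g)⁻¹ = m * (g * a * g⁻¹) * m⁻¹ by group]))
    have hmN : m ∈ subgroupNormalizer R := hm.1
    have := mul_mem (inv_mem hmN) h1
    rwa [inv_mul_cancel_left] at this
  rcases hgx with h | h
  · exact main g hg h
  · have h2 := main (e * g) (mul_mem (hRM he) hg) (commute_of_ac_ac hxe h.symm).symm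
    have := mul_mem (inv_mem (show e ∈ subgroupNormalizer R from Subgroup.le_normalizer he)) h2
    rwa [inv_mul_cancel_left] at this

end CfsgLib.Geo.OrthNorm
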