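import Cfsg.Agent.Lib.Geo.SympNorm.Tools
import Mathlib.Data.ZMod.Basic
import Mathlib.Algebra.CharP.Two

/-!
# Fusion of the elements of an elementary abelian group with a quadratic form

`V` is an elementary abelian normal subgroup of `N` carrying a non-degenerate quadratic form `q` respected by fusion,
centralisers of non-trivial elements of `V` lie in `N`, and only elements of `N` carry such an element back into `V`.
Then `N` is everything.
-/

set_option autoImplicit false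

namespace CfsgLib.Geo.OrthNorm

variable {G : Type*} [Group G]

/-- The hypotheses. -/
structure Frame (N V : Subgroup G) (q : G → ZMod 2) : Prop where
  le : V ≤ N
  sq : ∀ v ∈ V, v * v = 1
  normal : ∀ n ∈ N, ∀ v ∈ V, n * v * n⁻¹ ∈ V
  faithful : ∀ n ∈ N, (∀ v ∈ V, Commute n v) → n ∈ V
  q_one : q 1 = 0
  q_conj : ∀ g : G, ∀ v ∈ V, g * v * g⁻¹ ∈ V → q (g * v * g⁻¹) = q v
  quad : ∀ u ∈ V, ∀ v ∈ V, ∀ w ∈ V, q (u * v * w) = q (u * v) + q (v * w) + q (u * w) + q u + q v + q w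
  nondeg : ∀ v ∈ V, v ≠ 1 → ∃ w ∈ V, q (v * w) + q v + q w ≠ 0
  big : 8 ≤ Nat.card V
  cent : ∀ g : G, ∀ v ∈ V, v ≠ 1 → Commute g v → g ∈ N
  fuse : ∀ g : G, ∀ v ∈ V, v ≠ 1 → g * v * g⁻¹ ∈ V → g ∈ N
  two : ∃ a ∈ V, ∃ u ∈ V, a ≠ 1 ∧ u ≠ 1 ∧ q a ≠ q u

/-- The bilinear map. -/
def beta (q : G → ZMod 2) (v w : G) : ZMod 2 := q (v * w) + q v + q w

namespace Frame

variable {N V : Subgroup G} {q : G → ZMod 2} (h : Frame N V q)

include h

theorem inv_eq {v : G} (hv : v ∈ V) : v⁻¹ = v := inv_eq_of_mul_eq_one_right (h.sq v hv)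

theorem comm {u v : G} (hu : u ∈ V) (hv : v ∈ V) : u * v = v * u := by
  have := h.inv_eq (mul_mem hu hv)
  rw [mul_inv_rev, h.inv_eq hu, h.inv_eq hv] at this
  exact this.symm

theorem beta_add {u v w : G} (hu : u ∈ V) (hv : v ∈ V) (hw : w ∈ V) :
    beta q (u * v) w = beta q u w + beta q v w := by
  unfold beta
  rw [h.quad u hu v hv w hw]
  have h2 : ∀ x : ZMod 2, x + x = 0 := CharTwo.add_self_eq_zero
  linear_combination h2 (q (u * v))

theorem beta_comm {u v : G} (hu : u ∈ V) (hv : v ∈ V) : beta q u v = beta q v u := by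
  unfold beta
  rw [h.comm hu hv]
  ring

variable [Finite G]

/-- An element carrying a non-trivial element of `V` into `N` lies in `N`. -/
theorem conj_mem {g u : G} (hu : u ∈ V) (hu1 : u ≠ 1) (hx : g * u * g⁻¹ ∈ N) : g ∈ N := by
  classical
  by_contra hg
  let Vin : G → Subgroup G := fun g => V ⊓ N.comap (MulAut.conj g).toMonoidHom
  have hVin : ∀ {g b : G}, b ∈ Vin g ↔ b ∈ V ∧ g * b * g⁻¹ ∈ N := fun {g b} => Iff.rfl
  -- everything for one direction
  have side : ∀ g : G, g ∉ N → ∀ u ∈ Vin g, u ≠ 1 →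
      (∀ a ∈ Vin g⁻¹, ∀ b ∈ Vin g, Commute a (g * b * g⁻¹)) ∧
      (∀ b ∈ Vin g, b ≠ 1 → ∀ v ∈ V, Commute v (g * b * g⁻¹) → v ∈ Vin g⁻¹) ∧
      (∃ v ∈ V, v ∉ Vin g⁻¹) ∧
      (∀ b ∈ Vin g, ∀ v ∈ V, v * (g * b * g⁻¹ * v * (g * b * g⁻¹)⁻¹) ∈ Vin g⁻¹) ∧
      Nat.card (Vin g) ≤ Nat.card (Vin g⁻¹) ∧ ∃ a ∈ Vin g⁻¹, a ≠ 1 := by
    intro g hg u hu hu1
    have key1 : ∀ a ∈ Vin g⁻¹, ∀ b ∈ Vin g, Commute a (g * b * g⁻¹) := by
      intro a ha b hb
      obtain ⟨haV, haN⟩ := hVin.1 ha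
      obtain ⟨hbV, hbN⟩ := hVin.1 hb
      rw [inv_inv] at haN
      set y := g⁻¹ * a * g with hy
      have h1 : g * (y * b * y⁻¹ * b⁻¹) * g⁻¹ ∈ V := by
        rw [show g * (y * b * y⁻¹ * b⁻¹) * g⁻¹ = a * (g * b * g⁻¹ * a⁻¹ * (g * b * g⁻¹)⁻¹) by rw [hy]; group]
        exact mul_mem haV (h.normal _ hbN _ (inv_mem haV))
      have h2 : y * b * y⁻¹ * b⁻¹ ∈ V := mul_mem (h.normal _ haN _ hbV) (inv_mem hbV)
      by_contra hne
      refine hg (h.fuse g _ h2 (fun e => hne ?_) h1)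
      have e' : g * (y * b * y⁻¹ * b⁻¹) * g⁻¹ = 1 := by rw [e, mul_one, mul_inv_cancel]
      rw [hy, show g * (g⁻¹ * a * g * b * (g⁻¹ * a * g)⁻¹ * b⁻¹) * g⁻¹ =
        a * (g * b * g⁻¹) * a⁻¹ * (g * b * g⁻¹)⁻¹ by group, mul_inv_eq_one, mul_inv_eq_iff_eq_mul] at e'
      exact e'
    have key2 : ∀ b ∈ Vin g, b ≠ 1 → ∀ v ∈ V, Commute v (g * b * g⁻¹) → v ∈ Vin g⁻¹ := by
      intro b hb hb1 v hv hc
      refine hVin.2 ⟨hv, h.cent _ b (hVin.1 hb).1 hb1 ?_⟩
      rw [inv_inv]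
      have := hc.map (MulAut.conj g⁻¹).toMonoidHom
      simp only [MulEquiv.coe_toMonoidHom, MulAut.conj_apply, inv_inv] at this
      rwa [show g⁻¹ * (g * b * g⁻¹) * g = b by group] at this
    have hv₀ : ∃ v ∈ V, v ∉ Vin g⁻¹ := by
      by_contra! hall
      have hxV : g * u * g⁻¹ ∈ V := h.faithful _ (hVin.1 hu).2 fun v hv => (key1 v (hall v hv) u hu).symm
      exact hg (h.fuse g u (hVin.1 hu).1 hu1 hxV)
    have hφ : ∀ b ∈ Vin g, ∀ v ∈ V, v * (g * b * g⁻¹ * v * (g * b * g⁻¹)⁻¹) ∈ Vin g⁻¹ := by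
      intro b hb v hv
      set y := g * b * g⁻¹ with hy
      by_cases hb1 : b = 1
      · rw [hy, hb1, mul_one, mul_inv_cancel, one_mul, inv_one, mul_one, h.sq v hv]; exact one_mem _
      have hyy : y * y = 1 := by
        rw [hy, show g * b * g⁻¹ * (g * b * g⁻¹) = g * (b * b) * g⁻¹ by group, h.sq b (hVin.1 hb).1, mul_one,
          mul_inv_cancel]
      have hyv := h.normal y (hVin.1 hb).2 v hv
      refine key2 b hb hb1 _ (mul_mem hv hyv) ?_
      rw [← hy]
      have hyi : y⁻¹ = y := inv_eq_of_mul_eq_one_right hyy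
      show v * (y * v * y⁻¹) * y = y * (v * (y * v * y⁻¹))
      have := h.comm hv hyv
      rw [hyi] at this ⊢
      calc v * (y * v * y) * y = v * (y * v) * (y * y) := by group
        _ = y * (y * v * y * v) * (y * y) * (y * y) := by
          rw [show y * (y * v * y * v) = (y * y) * v * y * v by group, hyy, one_mul, mul_one]
          simp [mul_assoc]
        _ = y * (v * (y * v * y)) := by rw [hyy, mul_one, mul_one, this]
    obtain ⟨v, hv, hvn⟩ := hv₀
    refine ⟨key1, key2, ⟨v, hv, hvn⟩, hφ, ?_, ?_⟩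
    · let ψ : Vin g → Vin g⁻¹ := fun b => ⟨_, hφ b b.2 v hv⟩
      refine Nat.card_le_card_of_injective ψ fun b c e => ?_
      have e' := mul_left_cancel (congrArg Subtype.val e)
      by_contra hne
      have hbc : (c : G)⁻¹ * b ∈ Vin g := mul_mem (inv_mem c.2) b.2
      refine hvn (key2 _ hbc (fun e0 => hne (Subtype.ext (inv_mul_eq_one.1 e0).symm)) v hv ?_)
      show v * _ = _ * v
      rw [show v * (g * ((c : G)⁻¹ * b) * g⁻¹) = (g * c * g⁻¹)⁻¹ * ((g * c * g⁻¹) * v * (g * c * g⁻¹)⁻¹) *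
        (g * b * g⁻¹) by group, ← e']
      group
    · refine ⟨_, hφ u hu v hv, fun e => hvn (key2 u hu hu1 v hv ?_)⟩
      show v * _ = _ * v
      rw [mul_eq_one_iff_inv_eq, h.inv_eq hv, eq_mul_inv_iff_mul_eq] at e
      exact e
  have hu' : u ∈ Vin g := hVin.2 ⟨hu, hx⟩
  obtain ⟨key1, key2, ⟨v₀, hv₀, hv₀n⟩, hφ, hle, a₀, ha₀, ha₀1⟩ := side g hg u hu' hu1
  have hgi : g⁻¹ ∉ N := fun hm => hg (by have := inv_mem hm; rwa [inv_inv] at this)
  have hle' : Nat.card (Vin g⁻¹) ≤ Nat.card (Vin g) := by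
    have := (side g⁻¹ hgi a₀ ha₀ ha₀1).2.2.2.2.1
    rwa [inv_inv] at this
  set A := Vin g⁻¹ with hA
  have hAV : ∀ {a}, a ∈ A → a ∈ V := fun ha => (hVin.1 ha).1
  -- every element of `A` is a commutator with any outside element
  have hsurj : ∀ v ∈ V, v ∉ A → ∀ i ∈ A, ∃ b ∈ Vin g, v * (g * b * g⁻¹ * v * (g * b * g⁻¹)⁻¹) = i := by
    intro v hv hvn i hi
    let ψ : Vin g → A := fun b => ⟨_, hφ b b.2 v hv⟩
    have hinj : Function.Injective ψ := fun b c e => by
      have e' := mul_left_cancel (congrArg Subtype.val e)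
      by_contra hne
      have hbc : (c : G)⁻¹ * b ∈ Vin g := mul_mem (inv_mem c.2) b.2
      refine hvn (key2 _ hbc (fun e0 => hne (Subtype.ext (inv_mul_eq_one.1 e0).symm)) v hv ?_)
      show v * _ = _ * v
      rw [show v * (g * ((c : G)⁻¹ * b) * g⁻¹) = (g * c * g⁻¹)⁻¹ * ((g * c * g⁻¹) * v * (g * c * g⁻¹)⁻¹) *
        (g * b * g⁻¹) by group, ← e']
      group
    obtain ⟨b, hb⟩ := (hinj.bijective_of_nat_card_le hle').2 ⟨i, hi⟩
    exact ⟨b, b.2, congrArg Subtype.val hb⟩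
  have hval : ∀ v ∈ V, v ∉ A → ∀ i ∈ A, beta q v i = q i ∧ ∀ a ∈ A, beta q i a = 0 := by
    intro v hv hvn i hi
    obtain ⟨b, hb, e⟩ := hsurj v hv hvn i hi
    set y := g * b * g⁻¹ with hy
    have hyN : y ∈ N := (hVin.1 hb).2
    have hyv := h.normal y hyN v hv
    have e1 : y * v * y⁻¹ = v * i := by rw [← e, ← mul_assoc, h.sq v hv, one_mul]
    refine ⟨?_, fun a ha => ?_⟩
    · have e2 := h.q_conj y v hv hyv
      rw [e1] at e2
      unfold beta
      rw [e2]
      linear_combination CharTwo.add_self_eq_zero (q v)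
    · have hya : y * a * y⁻¹ = a := by rw [← (key1 a ha b hb).eq, mul_inv_cancel_right]
      have e3 : beta q (y * v * y⁻¹) a = beta q v a := by
        unfold beta
        have e4 := h.q_conj y (v * a) (mul_mem hv (hAV ha)) (h.normal y hyN _ (mul_mem hv (hAV ha)))
        rw [show y * (v * a) * y⁻¹ = y * v * y⁻¹ * (y * a * y⁻¹) by group, hya] at e4
        rw [e4, h.q_conj y v hv hyv]
      rw [e1, h.beta_add hv (hAV hi) (hAV ha)] at e3
      exact add_eq_left.1 e3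
  have rad : ∀ i ∈ A, q i = 0 → i = 1 := by
    intro i hi hqi
    by_contra hi1
    obtain ⟨w, hw, hne⟩ := h.nondeg i (hAV hi) hi1
    refine hne ?_
    by_cases hwA : w ∈ A
    · exact (hval v₀ hv₀ hv₀n i hi).2 w hwA
    · have := (hval w hw hwA i hi).1
      rwa [h.beta_comm hw (hAV hi), hqi] at this
  by_cases hq : ∃ v₁ ∈ V, v₁ ∉ A ∧ v₀ * v₁ ∉ A
  · obtain ⟨v₁, hv₁, hv₁n, h01⟩ := hq
    refine ha₀1 (rad a₀ ha₀ ?_)
    have e := (hval _ (mul_mem hv₀ hv₁) h01 a₀ ha₀).1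
    rw [h.beta_add hv₀ hv₁ (hAV ha₀), (hval v₀ hv₀ hv₀n a₀ ha₀).1, (hval v₁ hv₁ hv₁n a₀ ha₀).1,
      CharTwo.add_self_eq_zero] at e
    exact e.symm
  push Not at hq
  -- `V` is `A` and one coset
  have hcA : Nat.card A ≤ 2 := by
    have hone : ∀ i ∈ A, i ≠ 1 → q i = 1 := fun i hi hi1 => by
      have : q i = 0 ∨ q i = 1 := by
        generalize q i = z
        revert z
        decide
      exact this.resolve_left fun e => hi1 (rad i hi e)
    let f : A → ZMod 2 := fun i => q i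
    have hf : Function.Injective f := by
      intro i j e
      have hij : (i : G) * j ∈ A := mul_mem i.2 j.2
      have hz : q ((i : G) * j) = 0 := by
        have h0 := (hval v₀ hv₀ hv₀n i i.2).2 j j.2
        unfold beta at h0
        rw [show q (i : G) = q (j : G) from e, add_assoc, CharTwo.add_self_eq_zero, add_zero] at h0
        exact h0
      have := rad _ hij hz
      exact Subtype.ext ((eq_inv_of_mul_eq_one_left this).trans (h.inv_eq (hAV j.2)))
    have := Nat.card_le_card_of_injective f hf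
    simpa using this
  have hcV : Nat.card V ≤ 2 * Nat.card A := by
    let f : V → Bool × A := fun v =>
      if hv : (v : G) ∈ A then (true, ⟨v, hv⟩) else (false, ⟨v₀ * v, hq v v.2 hv⟩)
    have hf : Function.Injective f := by
      intro s t e
      by_cases hs : (s : G) ∈ A <;> by_cases ht : (t : G) ∈ A <;> simp [f, hs, ht] at e
      · exact e
      · exact e
    have := Nat.card_le_card_of_injective f hf
    simpa [Nat.card_prod] using this
  have := h.big
  omega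

/-- `N` is everything. -/
theorem all_mem (g : G) : g ∈ N := by
  obtain ⟨a, ha, u, hu, ha1, hu1, hne⟩ := h.two
  set f := g * u * g⁻¹ with hf
  have hff : f * f = 1 := by
    rw [hf, show g * u * g⁻¹ * (g * u * g⁻¹) = g * (u * u) * g⁻¹ by group, h.sq u hu, mul_one, mul_inv_cancel]
  rcases SympNorm.dihedral a f (h.sq a ha) hff (isOfFinOrder_of_finite _) with
    ⟨k, -, e⟩ | ⟨w, -, hw1, -, hwa, hwf, k, -, e⟩
  · exfalso
    have e' : g⁻¹ * k * a * (g⁻¹ * k)⁻¹ = u := by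
      rw [show g⁻¹ * k * a * (g⁻¹ * k)⁻¹ = g⁻¹ * (k * a * k⁻¹) * g by group, e, hf]; group
    have := h.q_conj _ a ha (by rw [e']; exact hu)
    rw [e'] at this
    exact hne this.symm
  have hwaN : w * a ∈ N := mul_mem (h.cent w a ha ha1 hwa) (h.le ha)
  have hwV : w ∈ V := by
    have main : ∀ m v, v ∈ V → v ≠ 1 → w * a = m * v * m⁻¹ → w ∈ V := fun m v hv hv1 e => by
      have hm := h.conj_mem hv hv1 (e ▸ hwaN)
      have := mul_mem (h.normal m hm v hv) (inv_mem ha)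
      rwa [← e, mul_inv_cancel_right] at this
    rcases e with e | e
    · exact main k a ha ha1 e
    · exact main (k * g) u hu hu1 (by rw [e, hf]; group)
  exact h.conj_mem hu hu1 (h.cent f w hwV hw1 hwf.symm)

end Frame

end CfsgLib.Geo.OrthNorm
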