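import Cfsg.Agent.Lib.Geo.OrthNorm.Move

/-!
# Overgroups of the normaliser in `Ω`
-/

set_option autoImplicit false
set_option linter.unusedSectionVars false

namespace CfsgLib.Geo.OrthNorm

open Matrix Cfsg.Geo CfsgLib.Geo.SympNorm

variable {ι ι' : Type} [Fintype ι] [DecidableEq ι] [Fintype ι'] [DecidableEq ι'] {F : Type*} [Field F]

/-- An overgroup of the normaliser inside the commutator subgroup, within the isometries. -/
structure OCtx (Γ : Matrix ι ι F) (k : ℕ) (R M : Subgroup (GL ι F)) : Prop where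
  op : IsOp Γ k R
  above : subgroupNormalizer R ⊓ om Γ ≤ M
  sub : M ≤ isoGL Γ

namespace OCtx

variable {Γ : Matrix ι ι F} {k : ℕ} {R M : Subgroup (GL ι F)} (C : OCtx Γ k R M)

include C

theorem le (hk : 4 ≤ k) : R ≤ M := fun _ hx =>
  C.above ⟨Subgroup.le_normalizer hx, C.op.le_om (by omega) hx⟩

theorem map (L : (ι' → F) ≃ₗ[F] (ι → F)) {Γ' : Matrix ι' ι' F} (hΓ' : IsSymGram Γ')
    (hmem : ∀ g : GL ι F, coordGL L g ∈ isoGL Γ' ↔ g ∈ isoGL Γ)
    (hom : (om Γ).map (coordGL L).toMonoidHom = om Γ') :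
    OCtx Γ' k (R.map (coordGL L).toMonoidHom) (M.map (coordGL L).toMonoidHom) where
  op := C.op.map L hΓ' hmem
  above := by
    rintro g ⟨hg, hgo⟩
    obtain ⟨g, rfl⟩ := (coordGL L).surjective g
    rw [← hom] at hgo
    obtain ⟨y, hy, e⟩ := hgo
    obtain rfl : y = g := (coordGL L).injective e
    exact ⟨y, C.above ⟨(coord_mem_normalizer L).1 hg, hy⟩, rfl⟩
  sub := by
    rintro _ ⟨g, hg, rfl⟩
    exact (hmem g).2 (C.sub hg)

/-- Coordinates at an involution and a partner. -/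
theorem exists_coords {a b : GL ι F} (ha : a ∈ R) (hb : b ∈ R) (haa : a * a = 1) (hbb : b * b = 1) (hab : Ac a b) :
    ∃ (n : ℕ) (L : (Fin n ⊕ Fin n → F) ≃ₗ[F] (ι → F)) (G : Matrix (Fin n) (Fin n) F),
      IsSymGram G ∧ coordGL L a = aM ∧ coordGL L b = bM ∧
        OCtx (fromBlocks G 0 0 G) k (R.map (coordGL L).toMonoidHom) (M.map (coordGL L).toMonoidHom) ∧
        (om (fromBlocks G 0 0 G) ≤ M.map (coordGL L).toMonoidHom → om Γ ≤ M) := by
  obtain ⟨n, L, G, hG, ea, eb, h', hmem, hom⟩ := C.op.exists_coords ha hb haa hbb hab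
  refine ⟨n, L, G, hG, ea, eb, C.map L h'.gram hmem hom, fun h g hg => ?_⟩
  obtain ⟨g', hg', e⟩ := h (hom ▸ Subgroup.mem_map_of_mem (coordGL L).toMonoidHom hg)
  obtain rfl : g' = g := (coordGL L).injective e
  exact hg'

end OCtx

end CfsgLib.Geo.OrthNorm
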