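import Cfsg.Agent.Lib.Geo.OrthNorm.Main
import Cfsg.Agent.Lib.Geo.SympNorm.SpFinal
import Cfsg.Agent.Lib.Geo.OrthMaximalBasic
import Cfsg.Agent.Lib.Classical.Quad.OmegaStructure

/-!
# Normalisers of extraspecial two-groups are maximal in `Ω`
-/

set_option autoImplicit false
set_option linter.unusedSectionVars false

namespace CfsgLib.Geo.OrthNorm

open Matrix Cfsg.Geo CfsgLib.Geo.SympNorm
open CfsgLib.Classical CfsgLib.Classical.Quad
open QuadraticMap (polar polarBilin)

variable {ι : Type} [Fintype ι] [DecidableEq ι] {F : Type*} [Field F]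

/-- A non-trivial element of the commutator subgroup fixing a large subspace. -/
theorem exists_small_mover [Finite F] {Γ : Matrix ι ι F} (hΓ : IsSymGram Γ) (hn : 5 ≤ Fintype.card ι) :
    ∃ g ∈ om Γ, g ≠ 1 ∧ ∃ W : Submodule F (ι → F), Fintype.card ι ≤ Module.finrank F W + 2 ∧
      ∀ v ∈ W, (g : Matrix ι ι F) *ᵥ v = v := by
  set Q := qf Γ
  have hQ := hΓ.nondeg
  have hfr : Module.finrank F (ι → F) = Fintype.card ι := Module.finrank_pi _
  have hn5 : 5 ≤ Module.finrank F (ι → F) := by omega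
  obtain ⟨w, hw0, hw⟩ := exists_singular hQ (by omega : 3 ≤ Module.finrank F (ι → F))
  obtain ⟨x, y, hx, -, hwx, hwy, hxy⟩ := exists_singular_pair_perp hQ hn5 hw0
  set E := eich hQ hw hwx
  let e := oEquiv Q
  obtain ⟨g, hg⟩ := e.surjective E
  have happ : ∀ v, ((g : GL ι F) : Matrix ι ι F) *ᵥ v =
      v + (polar Q v x - Q x * polar Q v w) • w + (-polar Q v w) • x := fun v => by
    rw [← oEquiv_apply Q g v]
    show (e g : (ι → F) ≃ₗ[F] (ι → F)) v = _
    rw [hg, eich_apply]
  refine ⟨g, ?_, fun e1 => ?_, LinearMap.ker ((polarBilin Q).flip x) ⊓ LinearMap.ker ((polarBilin Q).flip w), ?_, ?_⟩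
  · rw [← hΓ.omega_eq]
    have hmap : (commutator ↥(Cfsg.isometryGroup F (⇑Q))).map e.toMonoidHom = commutator (OQ Q) := by
      rw [commutator_def, commutator_def, Subgroup.map_commutator, Subgroup.map_top_of_surjective _ e.surjective]
    have h := eich_mem_commutator hQ hn5 hw hwx
    rw [← hmap, ← show e g = eich hQ hw hwx from hg, Subgroup.mem_map_equiv, MulEquiv.symm_apply_apply] at h
    exact ⟨g, h, rfl⟩
  · have h1 := happ y
    rw [e1, Units.val_one, one_mulVec, hx, QuadraticMap.polar_comm (⇑Q) y x, hxy,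
      QuadraticMap.polar_comm (⇑Q) y w, hwy] at h1
    simp at h1
    exact hw0 h1
  · have hk : ∀ φ : (ι → F) →ₗ[F] F, Fintype.card ι ≤ Module.finrank F (LinearMap.ker φ) + 1 := fun φ => by
      have h1 := φ.finrank_range_add_finrank_ker
      have h2 : Module.finrank F (LinearMap.range φ) ≤ 1 := (Submodule.finrank_le _).trans (Module.finrank_self F).le
      omega
    have h1 := Submodule.finrank_sup_add_finrank_inf_eq (LinearMap.ker ((polarBilin Q).flip x))
      (LinearMap.ker ((polarBilin Q).flip w))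
    have h2 := Submodule.finrank_le (LinearMap.ker ((polarBilin Q).flip x) ⊔ LinearMap.ker ((polarBilin Q).flip w))
    have h3 := hk ((polarBilin Q).flip x)
    have h4 := hk ((polarBilin Q).flip w)
    omega
  · intro v hv
    obtain ⟨h1, h2⟩ := Submodule.mem_inf.1 hv
    rw [LinearMap.mem_ker, LinearMap.flip_apply, QuadraticMap.polarBilin_apply_apply] at h1 h2
    rw [happ, h1, h2]
    simp

/-- `Ω` does not normalise `R`. -/
theorem IsOp.not_om_le [Finite F] {Γ : Matrix ι ι F} {k : ℕ} {R : Subgroup (GL ι F)} (h : IsOp Γ k R) (hk : 4 ≤ k) :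
    ¬ om Γ ≤ subgroupNormalizer R := by
  intro hle
  have hfr : Module.finrank F (ι → F) = Fintype.card ι := Module.finrank_pi _
  have h16 : 16 ≤ Fintype.card ι := h.dim ▸ (Nat.pow_le_pow_right two_pos hk : 2 ^ 4 ≤ 2 ^ k)
  obtain ⟨g, hgo, hg1, W, hW, hfix⟩ := exists_small_mover h.gram (by omega)
  have key : ∀ c ∈ R, ∀ U : Submodule F (ι → F), Fintype.card ι < 2 * Module.finrank F U →
      (∀ v ∈ U, (c : Matrix ι ι F) *ᵥ v = v) → c = 1 := by
    intro c hc U hU hcU
    have hU0 : U ≠ ⊥ := fun e => by rw [e, finrank_bot] at hU; omega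
    obtain ⟨v, hv, hv0⟩ := Submodule.exists_mem_ne_zero_of_ne_bot hU0
    have neg : ∀ v : ι → F, v = -v → v = 0 := fun v e => (smul_eq_zero.1 (show (2 : F) • v = 0 by
      rw [two_smul]; nth_rewrite 2 [e]; exact add_neg_cancel v)).resolve_left h.gram.two
    by_cases hs : c ∈ scalars ι F
    · rcases h.eq_or_neg hs (h.le hc) with e | e
      · exact e
      · have := hcU v hv
        rw [e, Units.val_neg, Units.val_one, neg_mulVec, one_mulVec] at this
        exact absurd (neg v this.symm) hv0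
    exfalso
    obtain ⟨b, -, hcb⟩ := h.pre.exists_ac hc hs
    let B : (ι → F) →ₗ[F] (ι → F) := Matrix.toLin' (b : Matrix ι ι F)
    have hB : Function.Injective B := fun p q e => by
      have := congrArg (((b⁻¹ : GL ι F) : Matrix ι ι F) *ᵥ ·) e
      simpa [B, mulVec_mulVec, ← Units.val_mul] using this
    have hUB : Module.finrank F (U.map B) = Module.finrank F U :=
      (Submodule.equivMapOfInjective B hB U).finrank_eq.symm
    have h1 := Submodule.finrank_sup_add_finrank_inf_eq U (U.map B)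
    have h2 := Submodule.finrank_le (U ⊔ U.map B)
    have hne : U ⊓ U.map B ≠ ⊥ := fun e => by rw [e, finrank_bot] at h1; omega
    obtain ⟨v, hv, hv0⟩ := Submodule.exists_mem_ne_zero_of_ne_bot hne
    obtain ⟨hvU, u, hu, rfl⟩ := hv
    refine hv0 (neg _ ?_)
    have e1 := hcU _ hvU
    simp only [B, Matrix.toLin'_apply] at e1 ⊢
    conv_lhs => rw [← e1]
    rw [mulVec_mulVec, ← Units.val_mul, show c * b = -(b * c) from hcb, Units.val_neg, Units.val_mul, neg_mulVec,
      ← mulVec_mulVec, hcU u hu]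
  have hgcomm : ∀ r ∈ R, Commute g r := by
    intro r hr
    let B : (ι → F) →ₗ[F] (ι → F) := Matrix.toLin' (r : Matrix ι ι F)
    have hB : Function.Injective B := fun p q e => by
      have := congrArg (((r⁻¹ : GL ι F) : Matrix ι ι F) *ᵥ ·) e
      simpa [B, mulVec_mulVec, ← Units.val_mul] using this
    have hWB : Module.finrank F (W.map B) = Module.finrank F W :=
      (Submodule.equivMapOfInjective B hB W).finrank_eq.symm
    have h1 := Submodule.finrank_sup_add_finrank_inf_eq W (W.map B)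
    have h2 := Submodule.finrank_le (W ⊔ W.map B)
    have hc := key (g * r * g⁻¹ * r⁻¹) (mul_mem ((Subgroup.mem_normalizer_iff.1 (hle hgo) r).1 hr) (inv_mem hr))
      (W ⊓ W.map B) (by omega) (by
        rintro v ⟨hv, u, hu, rfl⟩
        have hgi : ((g⁻¹ : GL ι F) : Matrix ι ι F) *ᵥ u = u := by
          conv_lhs => rw [← hfix u hu]
          rw [mulVec_mulVec, Units.inv_mul, one_mulVec]
        have e1 := hfix _ hv
        simp only [B, Matrix.toLin'_apply] at e1 ⊢
        rw [Units.val_mul, Units.val_mul, Units.val_mul, ← mulVec_mulVec, mulVec_mulVec _ _ (r : Matrix ι ι F),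
          Units.inv_mul, one_mulVec, ← mulVec_mulVec, hgi, ← mulVec_mulVec, e1])
    exact mul_inv_eq_iff_eq_mul.1 (mul_inv_eq_one.1 hc)
  have hgs := h.pre.scalar_of_commute fun r hr => hgcomm r hr
  rcases h.eq_or_neg hgs (om_le Γ hgo) with e | e
  · exact hg1 e
  · obtain ⟨v, hv, hv0⟩ := Submodule.exists_mem_ne_zero_of_ne_bot (show W ≠ ⊥ from fun e' => by
      rw [e', finrank_bot] at hW; omega)
    have := hfix v hv
    rw [e, Units.val_neg, Units.val_one, neg_mulVec, one_mulVec] at this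
    exact hv0 ((smul_eq_zero.1 (show (2 : F) • v = 0 by
      rw [two_smul]; nth_rewrite 2 [← this]; exact add_neg_cancel v)).resolve_left h.gram.two)

/-- Maximality in `Ω`. -/
theorem isMaximalIn_omega [Fintype F] (hp : (Fintype.card F).Prime) (h2 : (2 : F) ≠ 0) (hn : 13 ≤ Fintype.card ι)
    (Q : QuadraticForm F (ι → F)) (hQ : (polarBilin Q).Nondegenerate) {k : ℕ} {R : Subgroup (GL ι F)}
    (hR : IsSymplecticTypeGroup 2 R) (hirr : ActsAbsolutelyIrreducibly (matrixSet R))
    (hRD : R ≤ Cfsg.isometryGroup F (⇑Q)) (hcard : Nat.card R = 2 ^ (1 + 2 * k))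
    (hZ : Nat.card (Subgroup.center R) = 2) :
    Cfsg.Geo.IsMaximalIn (omegaGL (⇑Q)) (subgroupNormalizer R ⊓ omegaGL (⇑Q)) := by
  classical
  set Γ : Matrix ι ι F := LinearMap.BilinForm.toMatrix' (polarBilin Q) with hΓdef
  have hΓ : IsSymGram Γ := by
    refine ⟨h2, ?_, ?_⟩
    · ext i j
      rw [transpose_apply, hΓdef, LinearMap.BilinForm.toMatrix'_apply, LinearMap.BilinForm.toMatrix'_apply,
        QuadraticMap.polarBilin_apply_apply, QuadraticMap.polarBilin_apply_apply, QuadraticMap.polar_comm]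
    · refine isUnit_iff_ne_zero.2 (LinearMap.BilinForm.nondegenerate_toBilin'_iff_det_ne_zero.1 ?_)
      rw [hΓdef, Matrix.toBilin'_toMatrix']
      exact hQ
  have hq : ∀ v, qf Γ v = 2 * Q v := fun v => by
    rw [qf, LinearMap.BilinMap.toQuadraticMap_apply, hΓdef, Matrix.toBilin'_toMatrix',
      QuadraticMap.polarBilin_apply_apply, QuadraticMap.polar_self, nsmul_eq_mul, Nat.cast_ofNat]
  have hiso : Cfsg.isometryGroup F (⇑(qf Γ)) = Cfsg.isometryGroup F (⇑Q) := by
    ext g
    refine ⟨fun hg u i => ?_, fun hg u i => ?_⟩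
    · have := hg u i
      exact mul_left_cancel₀ h2 ((hq _).symm.trans (this.trans (hq _)))
    · have := hg u i
      show qf Γ _ = qf Γ _
      rw [hq, hq]
      exact congrArg ((2 : F) * ·) this
  have hom : omegaGL (⇑Q) = om Γ := by
    have e : ∀ f : (ι → F) → F, omegaGL f = ⁅Cfsg.isometryGroup F f, Cfsg.isometryGroup F f⁆ := fun f => by
      show (commutator _).map _ = _
      rw [commutator_def, Subgroup.map_commutator, ← MonoidHom.range_eq_map, Subgroup.range_subtype]
    rw [e, ← hiso, ← e, hΓ.omega_eq]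
  haveI : Nonempty ι := Fintype.card_pos_iff.1 (by omega)
  haveI : Nontrivial ι := Fintype.one_lt_card_iff_nontrivial.1 (by omega)
  obtain ⟨hsign, hsq, -⟩ := type_facts h2 (by omega) hR hirr
  have hneg : (-1 : GL ι F) ∈ R := by
    obtain ⟨a, ha, b, hb, hab⟩ := CfsgLib.Geo.Asch.not_abelian_of_absIrred hirr
    have hac : Ac a b := (hsign a ha b hb).resolve_left hab
    have := mul_mem (mul_mem (mul_mem ha hb) (inv_mem ha)) (inv_mem hb)
    rwa [hac.conj_eq, neg_mul, mul_inv_cancel] at this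
  haveI : Finite R := Nat.finite_of_card_ne_zero (by rw [hcard]; positivity)
  have hd := sq_card_eq h2 hsign hirr
  have hqc := Subgroup.card_eq_card_quotient_mul_card_subgroup (Subgroup.center R)
  rw [hcard, hZ, ← hd, add_comm 1, pow_succ, mul_comm 2 k, pow_mul] at hqc
  have hdim : Fintype.card ι = 2 ^ k :=
    (Nat.pow_left_injective two_ne_zero (Nat.eq_of_mul_eq_mul_right two_pos hqc)).symm
  have hk : 4 ≤ k := by
    by_contra! hk
    have : 2 ^ k ≤ 2 ^ 3 := Nat.pow_le_pow_right two_pos (by omega)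
    omega
  have hS : IsOp Γ k R :=
    { gram := hΓ
      le := hRD.trans (hiso ▸ hΓ.iso_eq).le
      neg_one_mem := hneg
      sign := hsign
      sq := hsq
      span := CfsgLib.Geo.Asch.span_eq_top hirr
      dim := hdim
      card := hcard }
  rw [hom]
  refine ⟨lt_of_le_of_ne inf_le_right fun e => hS.not_om_le hk (e.ge.trans inf_le_left), fun M hM hMS => ?_⟩
  obtain ⟨k, rfl⟩ : ∃ j, k = j + 1 := ⟨k - 1, by omega⟩
  have C : OCtx Γ (k + 1) R M := ⟨hS, hM, hMS.trans (om_le Γ)⟩
  rcases dichotomy hp C (by omega) with h | h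
  · exact Or.inl (le_antisymm (fun g hg => ⟨h hg, hMS hg⟩) hM)
  · exact Or.inr (le_antisymm hMS h)

end CfsgLib.Geo.OrthNorm
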