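import Cfsg.Agent.Lib.Geo.SympNorm.SpForm
import Cfsg.Agent.Lib.Geo.OrthExt.Matrix

/-!
# Isometry groups of symmetric Gram matrices and their commutator subgroups
-/

set_option autoImplicit false
set_option linter.unusedSectionVars false

namespace CfsgLib.Geo.OrthNorm

open Matrix Cfsg.Geo CfsgLib.Geo.SympNorm
open CfsgLib.Classical CfsgLib.Classical.Quad
open QuadraticMap (polar polarBilin)
open LinearMap (BilinForm)
open scoped commutatorElement

variable {ι ι' : Type} [Fintype ι] [DecidableEq ι] [Fintype ι'] [DecidableEq ι'] {F : Type*} [Field F]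

/-- An invertible symmetric matrix, the characteristic being odd. -/
structure IsSymGram (Γ : Matrix ι ι F) : Prop where
  two : (2 : F) ≠ 0
  symm : Γᵀ = Γ
  unit : IsUnit Γ.det

/-- The quadratic form of a matrix. -/
noncomputable def qf (Γ : Matrix ι ι F) : QuadraticForm F (ι → F) := (Matrix.toBilin' Γ).toQuadraticMap

/-- The commutator subgroup of the isometries. -/
def om (Γ : Matrix ι ι F) : Subgroup (GL ι F) := ⁅isoGL Γ, isoGL Γ⁆

theorem om_le (Γ : Matrix ι ι F) : om Γ ≤ isoGL Γ :=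
  Subgroup.commutator_le.2 fun a ha b hb => mul_mem (mul_mem (mul_mem ha hb) (inv_mem ha)) (inv_mem hb)

theorem conj_mem_om {Γ : Matrix ι ι F} {g y : GL ι F} (hg : g ∈ isoGL Γ) (hy : y ∈ isoGL Γ) :
    g * y * g⁻¹ * y⁻¹ ∈ om Γ :=
  commutatorElement_def g y ▸ Subgroup.commutator_mem_commutator hg hy

theorem qf_apply (Γ : Matrix ι ι F) (v : ι → F) : qf Γ v = v ⬝ᵥ Γ *ᵥ v := by
  rw [qf, LinearMap.BilinMap.toQuadraticMap_apply, Matrix.toBilin'_apply']

theorem mulVec_dot (g : Matrix ι ι F) (Γ : Matrix ι ι F) (u v : ι → F) :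
    (g *ᵥ u) ⬝ᵥ Γ *ᵥ (g *ᵥ v) = u ⬝ᵥ (gᵀ * Γ * g) *ᵥ v := by
  rw [← mulVec_mulVec, ← mulVec_mulVec, dotProduct_mulVec u, Matrix.vecMul_transpose]

namespace IsSymGram

variable {Γ : Matrix ι ι F} (hΓ : IsSymGram Γ)

include hΓ

theorem dot_comm (u v : ι → F) : u ⬝ᵥ Γ *ᵥ v = v ⬝ᵥ Γ *ᵥ u := by
  conv_lhs => rw [dotProduct_mulVec, ← mulVec_transpose, hΓ.symm, dotProduct_comm]

theorem polar_qf (u v : ι → F) : polar (qf Γ) u v = 2 * (u ⬝ᵥ Γ *ᵥ v) := by
  rw [qf, LinearMap.BilinMap.polar_toQuadraticMap, Matrix.toBilin'_apply', Matrix.toBilin'_apply', hΓ.dot_comm v u]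
  ring

theorem nondeg : (polarBilin (qf Γ)).Nondegenerate := by
  have hB := LinearMap.BilinForm.nondegenerate_toBilin'_of_det_ne_zero' Γ hΓ.unit.ne_zero
  refine ⟨fun x hx => hB.1 x fun y => ?_, fun y hy => hB.2 y fun x => ?_⟩
  · have := hx y
    rw [QuadraticMap.polarBilin_apply_apply, hΓ.polar_qf] at this
    rw [Matrix.toBilin'_apply']
    exact (mul_eq_zero.1 this).resolve_left hΓ.two
  · have := hy x
    rw [QuadraticMap.polarBilin_apply_apply, hΓ.polar_qf] at this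
    rw [Matrix.toBilin'_apply']
    exact (mul_eq_zero.1 this).resolve_left hΓ.two

theorem iso_eq : Cfsg.isometryGroup F (⇑(qf Γ)) = isoGL Γ := by
  ext g
  refine ⟨fun h => ?_, fun h u _ => ?_⟩
  · rw [mem_isoGL]
    refine Matrix.toBilin'.injective (LinearMap.ext fun u => LinearMap.ext fun v => ?_)
    have h1 : ∀ x, qf Γ ((g : Matrix ι ι F) *ᵥ x) = qf Γ x := fun x => h x 0
    have h2 : polar (qf Γ) ((g : Matrix ι ι F) *ᵥ u) ((g : Matrix ι ι F) *ᵥ v) = polar (qf Γ) u v := by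
      simp only [QuadraticMap.polar, ← mulVec_add, h1]
    rw [hΓ.polar_qf, hΓ.polar_qf, mulVec_dot] at h2
    rw [Matrix.toBilin'_apply', Matrix.toBilin'_apply']
    exact mul_left_cancel₀ hΓ.two h2
  · show qf Γ ((g : Matrix ι ι F) *ᵥ u) = qf Γ u
    rw [qf_apply, qf_apply, mulVec_dot, mem_isoGL.1 h]

theorem omega_eq : omegaGL (⇑(qf Γ)) = om Γ := by
  have e : omegaGL (⇑(qf Γ)) = ⁅Cfsg.isometryGroup F (⇑(qf Γ)), Cfsg.isometryGroup F (⇑(qf Γ))⁆ := by
    show (commutator _).map _ = _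
    rw [commutator_def, Subgroup.map_commutator, ← MonoidHom.range_eq_map, Subgroup.range_subtype]
  rw [e, hΓ.iso_eq, om]

theorem sq_mem [Finite F] (hn : 5 ≤ Fintype.card ι) {g : GL ι F} (hg : g ∈ isoGL Γ) : g * g ∈ om Γ := by
  rw [← hΓ.omega_eq]
  have hg' : g ∈ Cfsg.isometryGroup F (⇑(qf Γ)) := hΓ.iso_eq.symm ▸ hg
  have hn' : 5 ≤ Module.finrank F (ι → F) := by rwa [Module.finrank_pi]
  have h := OrthExt.mul_self_mem_commutator hΓ.nondeg hn' (oEquiv (qf Γ) ⟨g, hg'⟩)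
  rw [← map_mul] at h
  have hmap : (commutator ↥(Cfsg.isometryGroup F (⇑(qf Γ)))).map (oEquiv (qf Γ)).toMonoidHom =
      commutator (OQ (qf Γ)) := by
    rw [commutator_def, commutator_def, Subgroup.map_commutator, Subgroup.map_top_of_surjective _
      (oEquiv (qf Γ)).surjective]
  rw [← hmap, Subgroup.mem_map_equiv, MulEquiv.symm_apply_apply] at h
  exact ⟨_, h, rfl⟩

/-- An element whose cube lies in the commutator subgroup lies there. -/
theorem mem_of_cube [Finite F] (hn : 5 ≤ Fintype.card ι) {g : GL ι F} (hg : g ∈ isoGL Γ)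
    (h : g * g * g ∈ om Γ) : g ∈ om Γ := by
  have := mul_mem (inv_mem (hΓ.sq_mem hn hg)) h
  rwa [← mul_assoc, inv_mul_cancel, one_mul] at this

end IsSymGram

/-- The Gram matrix in new coordinates. -/
theorem exists_symGram {Γ : Matrix ι ι F} (hΓ : IsSymGram Γ) (L : (ι' → F) ≃ₗ[F] (ι → F)) :
    ∃ Γ' : Matrix ι' ι' F, IsSymGram Γ' ∧ (∀ g : GL ι F, coordGL L g ∈ isoGL Γ' ↔ g ∈ isoGL Γ) ∧
      (om Γ).map (coordGL L).toMonoidHom = om Γ' := by
  classical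
  set P : Matrix ι ι' F := LinearMap.toMatrix' (L : (ι' → F) →ₗ[F] (ι → F))
  have hP : ∀ x, P *ᵥ x = L x := LinearMap.toMatrix'_mulVec _
  set Q : Matrix ι' ι F := LinearMap.toMatrix' (L.symm : (ι → F) →ₗ[F] (ι' → F))
  have hQ : ∀ x, Q *ᵥ x = L.symm x := LinearMap.toMatrix'_mulVec _
  have hPQ : P * Q = 1 := Matrix.toLin'.injective (LinearMap.ext fun x => by simp [hP, hQ])
  have hQP : Q * P = 1 := Matrix.toLin'.injective (LinearMap.ext fun x => by simp [hP, hQ])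
  have hval : ∀ g : GL ι F, ((coordGL L g : GL ι' F) : Matrix ι' ι' F) = Q * (g : Matrix ι ι F) * P := fun g =>
    Matrix.toLin'.injective (LinearMap.ext fun x => by
      simp [coordGL_val, coordAlg_mulVec, ← mulVec_mulVec, hP, hQ])
  have hmem : ∀ g : GL ι F, coordGL L g ∈ isoGL (Pᵀ * Γ * P) ↔ g ∈ isoGL Γ := by
    intro g
    rw [mem_isoGL, mem_isoGL, hval]
    set G := (g : Matrix ι ι F)
    have e : (Q * G * P)ᵀ * (Pᵀ * Γ * P) * (Q * G * P) = Pᵀ * (Gᵀ * Γ * G) * P := by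
      calc (Q * G * P)ᵀ * (Pᵀ * Γ * P) * (Q * G * P) = Pᵀ * (Gᵀ * (Qᵀ * Pᵀ) * Γ * (P * Q) * G) * P := by
            simp only [transpose_mul, Matrix.mul_assoc]
        _ = _ := by rw [← transpose_mul, hPQ, transpose_one, Matrix.mul_one, Matrix.mul_one]
    rw [e]
    refine ⟨fun h => ?_, fun h => by rw [h]⟩
    have := congrArg (fun X => Qᵀ * X * Q) h
    simp only [← Matrix.mul_assoc, ← transpose_mul, hPQ, transpose_one, Matrix.one_mul] at this
    simpa [Matrix.mul_assoc, hPQ] using this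
  refine ⟨Pᵀ * Γ * P, ⟨hΓ.two, ?_, ?_⟩, hmem, ?_⟩
  · simp [transpose_mul, hΓ.symm, Matrix.mul_assoc]
  · refine (Matrix.isUnit_iff_isUnit_det _).1 ⟨⟨Pᵀ * Γ * P, Q * Γ⁻¹ * Qᵀ, ?_, ?_⟩, rfl⟩
    · rw [show Pᵀ * Γ * P * (Q * Γ⁻¹ * Qᵀ) = Pᵀ * Γ * (P * Q) * Γ⁻¹ * Qᵀ by simp only [Matrix.mul_assoc], hPQ,
        Matrix.mul_one, Matrix.mul_assoc Pᵀ, Matrix.mul_nonsing_inv _ hΓ.unit, Matrix.mul_one, ← transpose_mul, hQP,
        transpose_one]
    · rw [show Q * Γ⁻¹ * Qᵀ * (Pᵀ * Γ * P) = Q * Γ⁻¹ * (Qᵀ * Pᵀ) * Γ * P by simp only [Matrix.mul_assoc],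
        ← transpose_mul, hPQ, transpose_one, Matrix.mul_one, Matrix.mul_assoc Q, Matrix.nonsing_inv_mul _ hΓ.unit,
        Matrix.mul_one, hQP]
  · have hiso : (isoGL Γ).map (coordGL L).toMonoidHom = isoGL (Pᵀ * Γ * P) := by
      ext g
      obtain ⟨g, rfl⟩ := (coordGL L).surjective g
      rw [Subgroup.mem_map_equiv, MulEquiv.symm_apply_apply, hmem]
    rw [om, om, Subgroup.map_commutator, hiso]

end CfsgLib.Geo.OrthNorm
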