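import Cfsg.Agent.Lib.Geo.OrthNorm.Cent
import Cfsg.Agent.Lib.Geo.OrthNorm.Core

/-!
# Overgroups of the normaliser of an extraspecial two-group in `Ω`
-/

set_option autoImplicit false
set_option linter.unusedSectionVars false

namespace CfsgLib.Geo.OrthNorm

open Matrix Cfsg.Geo CfsgLib.Geo.SympNorm

variable {ι : Type} [Fintype ι] [DecidableEq ι] {F : Type*} [Field F]

open _root_.Classical in
/-- Whether an element squares to minus one. -/
noncomputable def sgn (g : GL ι F) : ZMod 2 := if g * g = -1 then 1 else 0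

open _root_.Classical in
/-- Whether two elements fail to commute. -/
noncomputable def chi (a b : GL ι F) : ZMod 2 := if Commute a b then 0 else 1

open _root_.Classical in
/-- The quadratic form on the classes of an overgroup. -/
noncomputable def qv (M : Subgroup (GL ι F)) (v : GL ι F ⧸ scalars ι F) : ZMod 2 :=
  if ∃ g ∈ M, bar g = v ∧ g * g = -1 then 1 else 0

namespace IsOp

variable {Γ : Matrix ι ι F} {k : ℕ} {R : Subgroup (GL ι F)} (h : IsOp Γ k R)

include h

theorem sgn_mul {a b : GL ι F} (ha : a ∈ R) (hb : b ∈ R) : sgn (a * b) = sgn a + sgn b + chi a b := by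
  have h1 := h.neg_one_ne
  have h11 : (1 : ZMod 2) + 1 = 0 := by decide
  rcases h.sq a ha with ea | ea <;> rcases h.sq b hb with eb | eb <;> rcases h.sign a ha b hb with c | c
  all_goals unfold sgn chi
  all_goals first
    | (rw [commute_sq_mul c, if_pos c])
    | (rw [c.sq_mul, if_neg (fun c' : Commute a b => h.pre.not_both c' c)])
  all_goals simp [ea, eb, h1, h1.symm, h11]

theorem chi_mul {a b w : GL ι F} (ha : a ∈ R) (hb : b ∈ R) (hw : w ∈ R) :
    chi (a * b) w = chi a w + chi b w := by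
  have h11 : (1 : ZMod 2) + 1 = 0 := by decide
  have no : ∀ {x y : GL ι F}, Ac x y → ¬ Commute x y := fun e e' => h.pre.not_both e' e
  unfold chi
  rcases h.sign a ha w hw with c | c <;> rcases h.sign b hb w hw with c' | c'
  · rw [if_pos c, if_pos c', if_pos (c.mul_left c'), add_zero]
  · rw [if_pos c, if_neg (no c'), if_neg (no (Ac.mul_left' c c')), zero_add]
  · rw [if_neg (no c), if_pos c', if_neg (no (Ac.mul_left c c')), add_zero]
  · rw [if_neg (no c), if_neg (no c'), if_pos (commute_of_ac_ac c.symm c'.symm).symm, h11]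

theorem sgn_quad {u v w : GL ι F} (hu : u ∈ R) (hv : v ∈ R) (hw : w ∈ R) :
    sgn (u * v * w) = sgn (u * v) + sgn (v * w) + sgn (u * w) + sgn u + sgn v + sgn w := by
  rw [h.sgn_mul (mul_mem hu hv) hw, h.chi_mul hu hv hw, h.sgn_mul hv hw, h.sgn_mul hu hw]
  have h2 : ∀ x : ZMod 2, x + x = 0 := by decide
  linear_combination (norm := ring_nf) - h2 (sgn u) - h2 (sgn v) - h2 (sgn w)

end IsOp

namespace OCtx

variable {Γ : Matrix ι ι F} {k : ℕ} {R M : Subgroup (GL ι F)} (C : OCtx Γ k R M)

include C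

theorem qv_bar {g : GL ι F} (hg : g ∈ M) : qv M (bar g) = sgn g := by
  classical
  have h : (∃ g' ∈ M, bar g' = bar g ∧ g' * g' = -1) ↔ g * g = -1 := by
    refine ⟨?_, fun e => ⟨g, hg, rfl, e⟩⟩
    rintro ⟨g', hg', e1, e2⟩
    have hs : g' * g⁻¹ ∈ scalars ι F := by rw [← bar_eq_one, map_mul, map_inv, e1, mul_inv_cancel]
    rcases C.op.eq_or_neg hs (mul_mem (C.sub hg') (inv_mem (C.sub hg))) with e | e
    · rwa [← mul_inv_eq_one.1 e]
    · rwa [mul_inv_eq_iff_eq_mul.1 e, neg_one_mul, neg_mul_neg] at e2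
  simp only [qv, sgn, h]

end OCtx

/-- The normaliser or everything. -/
theorem dichotomy [Fintype F] (hp : (Fintype.card F).Prime) {Γ : Matrix ι ι F} {k : ℕ} {R M : Subgroup (GL ι F)}
    (C : OCtx Γ (k + 1) R M) (hk : 3 ≤ k) : M ≤ subgroupNormalizer R ∨ om Γ ≤ M := by
  refine (Classical.em (om Γ ≤ M)).symm.imp (fun hS => ?_) id
  classical
  have hcent := C.cent hp hk hS
  have hRM : R ≤ M := C.le (by omega)
  haveI := C.op.finite
  haveI : Finite (GL ι F ⧸ scalars ι F) := Quotient.finite _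
  haveI := C.op.pre.nonempty
  have hRmem : ∀ {g}, g ∈ M → ∀ {r}, r ∈ R → bar g ∈ R.map bar → g ∈ R := by
    rintro g hg - - ⟨r, hr, e⟩
    have h1 : g * r⁻¹ ∈ scalars ι F := by rw [← bar_eq_one, map_mul, map_inv, e, mul_inv_cancel]
    have h2 := C.op.mem_of_scalar h1 hr (by rw [inv_mul_cancel_right]; exact C.sub hg)
    rwa [inv_mul_cancel_right] at h2
  let N : Subgroup (M.map bar) := ((subgroupNormalizer R ⊓ M).map bar).subgroupOf (M.map bar)
  let V : Subgroup (M.map bar) := (R.map bar).subgroupOf (M.map bar)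
  have hVex : ∀ v ∈ V, ∃ r ∈ R, (v : GL ι F ⧸ scalars ι F) = bar r := fun v ⟨r, hr, e⟩ => ⟨r, hr, e.symm⟩
  have hq : ∀ {g : GL ι F}, g ∈ M → ∀ (x : M.map bar), (x : GL ι F ⧸ scalars ι F) = bar g →
      qv M (x : GL ι F ⧸ scalars ι F) = sgn g := fun hg x e => by rw [e, C.qv_bar hg]
  have hne : ∀ {r : GL ι F} {v : M.map bar}, (v : GL ι F ⧸ scalars ι F) = bar r → v ≠ 1 → r ∉ scalars ι F :=
    fun e hv1 hs => hv1 (Subtype.ext (by rw [e, bar_eq_one.2 hs]; rfl))
  obtain ⟨a, ha, haa, ha1, -⟩ := C.op.exists_sing (x := 1) (by omega) (one_mem R)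
  obtain ⟨u, hu, euu⟩ := C.op.exists_nons_univ (by omega)
  have hF : Frame N V (fun x => qv M (x : GL ι F ⧸ scalars ι F)) :=
    { le := fun v hv => by
        obtain ⟨r, hr, e⟩ := hVex v hv
        exact ⟨r, ⟨Subgroup.le_normalizer hr, hRM hr⟩, e.symm⟩
      sq := fun v hv => by
        obtain ⟨r, hr, e⟩ := hVex v hv
        refine Subtype.ext ?_
        change (v : GL ι F ⧸ scalars ι F) * v = 1
        rw [e]
        exact C.op.pre.bar_sq hr
      normal := fun n hn v hv => by
        obtain ⟨g, hg, eg⟩ := hn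
        obtain ⟨r, hr, e⟩ := hVex v hv
        refine ⟨g * r * g⁻¹, (Subgroup.mem_normalizer_iff.1 hg.1 r).1 hr, ?_⟩
        rw [map_mul, map_mul, map_inv, eg, ← e]
        rfl
      faithful := fun n hn hc => by
        obtain ⟨g, hg, eg⟩ := hn
        refine ⟨g, ?_, eg⟩
        obtain ⟨c, hc', e⟩ := C.op.pre.exists_smul_mem_of_pc (g := g) fun t ht => (C.op.pre.pc_iff ht).2 (by
          have := congrArg Subtype.val
            (hc ⟨bar t, Subgroup.mem_map_of_mem _ (hRM ht)⟩ (Subgroup.mem_map_of_mem _ ht)).eq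
          change (n : GL ι F ⧸ scalars ι F) * bar t = bar t * n at this
          rw [map_mul, map_mul, map_mul, map_inv, map_inv, eg, Subgroup.coe_subtype, this, mul_inv_cancel_right,
            mul_inv_cancel])
        refine hRmem hg.2 ha ⟨c * g, e, ?_⟩
        rw [map_mul, bar_eq_one.2 hc', one_mul]
      q_one := by
        show qv M ((1 : M.map bar) : GL ι F ⧸ scalars ι F) = 0
        rw [hq (one_mem M) 1 (map_one bar).symm, sgn, mul_one, if_neg C.op.neg_one_ne.symm]
      q_conj := fun x v hv _ => by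
        obtain ⟨g, hg, eg⟩ := x.2
        obtain ⟨r, hr, e⟩ := hVex v hv
        show qv M ((x * v * x⁻¹ : M.map bar) : GL ι F ⧸ scalars ι F) = qv M (v : GL ι F ⧸ scalars ι F)
        rw [hq (hRM hr) v e, hq (mul_mem (mul_mem hg (hRM hr)) (inv_mem hg)) _ (by
          rw [map_mul, map_mul, map_inv, eg, ← e]; rfl), sgn, sgn,
          show g * r * g⁻¹ * (g * r * g⁻¹) = g * (r * r) * g⁻¹ by group, scalar_conj (C.op.pre.sq_mem hr)]
      quad := fun x hx y hy z hz => by
        obtain ⟨r, hr, e⟩ := hVex x hx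
        obtain ⟨s, hs, e'⟩ := hVex y hy
        obtain ⟨t, ht, e''⟩ := hVex z hz
        have mR := @hRM
        beta_reduce
        rw [hq (mR hr) x e, hq (mR hs) y e', hq (mR ht) z e'',
          hq (mR (mul_mem (mul_mem hr hs) ht)) (x * y * z) (by simp [e, e', e'']),
          hq (mR (mul_mem hr hs)) (x * y) (by simp [e, e']), hq (mR (mul_mem hs ht)) (y * z) (by simp [e', e'']),
          hq (mR (mul_mem hr ht)) (x * z) (by simp [e, e''])]
        exact C.op.sgn_quad hr hs ht
      nondeg := fun v hv hv1 => by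
        obtain ⟨r, hr, e⟩ := hVex v hv
        obtain ⟨b, hb, hrb⟩ := C.op.pre.exists_ac hr (hne e hv1)
        refine ⟨⟨bar b, Subgroup.mem_map_of_mem _ (hRM hb)⟩, Subgroup.mem_map_of_mem _ hb, ?_⟩
        beta_reduce
        rw [hq (hRM hr) v e, hq (hRM hb) (⟨bar b, Subgroup.mem_map_of_mem _ (hRM hb)⟩ : M.map bar) rfl, hq (hRM (mul_mem hr hb)) (v * _) (by simp [e]), C.op.sgn_mul hr hb,
          chi, if_neg fun c => C.op.pre.not_both c hrb]
        have h2 : ∀ x y : ZMod 2, x + y + 1 + x + y = 1 := by decide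
        rw [h2]
        decide
      big := by
        have hV : Nat.card V = Nat.card (R.map bar) :=
          Nat.card_congr (Subgroup.subgroupOfEquivOfLe (Subgroup.map_mono hRM)).toEquiv
        set f := (bar : GL ι F →* _).comp R.subtype
        have h1 := Subgroup.card_eq_card_quotient_mul_card_subgroup f.ker
        rw [Nat.card_congr (QuotientGroup.quotientKerEquivRange f).toEquiv,
          show f.range = R.map bar by rw [MonoidHom.range_comp, Subgroup.range_subtype], C.op.card] at h1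
        have h2 : Nat.card f.ker ≤ 2 := by
          by_contra! h2
          obtain ⟨t, ht, ht1⟩ := C.op.exists_not_scalar (Subgroup.map_subtype_le f.ker)
            (by rwa [Subgroup.card_map_of_injective R.subtype_injective])
          obtain ⟨y, hy, rfl⟩ := ht
          exact ht1 (bar_eq_one.1 hy)
        have h3 : 2 ^ 4 ≤ 2 ^ (1 + 2 * (k + 1)) := Nat.pow_le_pow_right two_pos (by omega)
        have h4 := Nat.mul_le_mul_left (Nat.card (R.map bar)) h2
        rw [hV]
        norm_num at h3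
        omega
      cent := fun x v hv hv1 hxv => by
        obtain ⟨g, hg, eg⟩ := x.2
        obtain ⟨r, hr, e⟩ := hVex v hv
        refine ⟨g, ⟨hcent g hg r hr (hne e hv1) ((C.op.pre.pc_iff hr).2 ?_), hg⟩, eg⟩
        have := congrArg Subtype.val hxv.eq
        change (x : GL ι F ⧸ scalars ι F) * v = v * x at this
        rw [map_mul, map_mul, map_mul, map_inv, map_inv, eg, ← e, this, mul_inv_cancel_right, mul_inv_cancel]
      fuse := fun x v hv hv1 hx => by
        obtain ⟨g, hg, eg⟩ := x.2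
        obtain ⟨r, hr, e⟩ := hVex v hv
        refine ⟨g, ⟨?_, hg⟩, eg⟩
        have hr1 := hne e hv1
        have hr' : g * r * g⁻¹ ∈ R := hRmem (mul_mem (mul_mem hg (hRM hr)) (inv_mem hg)) hr (by
          rw [map_mul, map_mul, map_inv, eg, ← e]
          exact hx)
        have hsq : g * r * g⁻¹ * (g * r * g⁻¹) = r * r := by
          rw [show g * r * g⁻¹ * (g * r * g⁻¹) = g * (r * r) * g⁻¹ by group, scalar_conj (C.op.pre.sq_mem hr)]
        obtain ⟨n, hn, hn'⟩ := C.op.transitive (by omega) hr' hr (fun h => hr1 ((conj_mem_scalars g).1 h)) hr1 hsq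
        have hnN : n ∈ subgroupNormalizer R := hn.1
        have hng : n * g ∈ subgroupNormalizer R := hcent _ (mul_mem (C.above hn) hg) r hr hr1
          (pc_of_scalar (C.op.pre.sq_mem hr)
            (by rwa [show n * g * r * (n * g)⁻¹ = n * (g * r * g⁻¹) * n⁻¹ by group]))
        have := mul_mem (inv_mem hnN) hng
        rwa [inv_mul_cancel_left] at this
      two := by
        refine ⟨⟨bar a, Subgroup.mem_map_of_mem _ (hRM ha)⟩, Subgroup.mem_map_of_mem _ ha,
          ⟨bar u, Subgroup.mem_map_of_mem _ (hRM hu)⟩, Subgroup.mem_map_of_mem _ hu,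
          fun e => ha1 (bar_eq_one.1 (congrArg Subtype.val e)),
          fun e => C.op.not_scalar_of_nons hu euu (bar_eq_one.1 (congrArg Subtype.val e)), ?_⟩
        beta_reduce
        rw [hq (hRM ha) (⟨bar a, Subgroup.mem_map_of_mem _ (hRM ha)⟩ : M.map bar) rfl, hq (hRM hu) (⟨bar u, Subgroup.mem_map_of_mem _ (hRM hu)⟩ : M.map bar) rfl, sgn, sgn, if_pos euu, haa, if_neg C.op.neg_one_ne.symm]
        decide }
  intro g hg
  obtain ⟨n, hn, e⟩ := hF.all_mem ⟨bar g, Subgroup.mem_map_of_mem _ hg⟩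
  have e' : bar n = bar g := e
  have hs : g * n⁻¹ ∈ scalars ι F := by rw [← bar_eq_one, map_mul, map_inv, e', mul_inv_cancel]
  have hsN : g * n⁻¹ ∈ subgroupNormalizer R := Subgroup.mem_normalizer_iff.2 fun x => by
    rw [(commute_scalar hs x).eq, mul_inv_cancel_right]
  have := mul_mem hsN hn.1
  rwa [inv_mul_cancel_right] at this

end CfsgLib.Geo.OrthNorm
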