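import Cfsg.Agent.Lib.Geo.OrthNorm.Basic
import Cfsg.Agent.Lib.Geo.SympNorm.SpTwist

/-!
# Elements of the normaliser inside the commutator subgroup
-/

set_option autoImplicit false
set_option linter.unusedSectionVars false
set_option maxHeartbeats 1000000

namespace CfsgLib.Geo.OrthNorm

open Matrix Cfsg.Geo CfsgLib.Geo.SympNorm

variable {ι : Type} [Fintype ι] [DecidableEq ι] {F : Type*} [Field F]

/-- The third power of a product of two anticommuting normalised elements. -/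
theorem pr_cube (h2 : (2 : F) ≠ 0) {y z : GL ι F} (hy : y * y = -1) (hz : z * z = -1) (h : Ac y z) :
    pr h2 y z hy hz * pr h2 y z hy hz * pr h2 y z hy hz = -1 := by
  refine Units.ext ?_
  set Y := (y : Matrix ι ι F) with hYdef
  set Z := (z : Matrix ι ι F) with hZdef
  have hY : Y * Y = -1 := by rw [hYdef, ← Units.val_mul, hy]; simp
  have hZ : Z * Z = -1 := by rw [hZdef, ← Units.val_mul, hz]; simp
  have hZY : Z * Y = -(Y * Z) := by
    have e := congrArg Units.val (show z * y = -(y * z) from h.symm)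
    simpa using e
  have hY' : ∀ X, Y * (Y * X) = -X := fun X => by rw [← mul_assoc, hY, neg_one_mul]
  have hZ' : ∀ X, Z * (Z * X) = -X := fun X => by rw [← mul_assoc, hZ, neg_one_mul]
  have hZY' : ∀ X, Z * (Y * X) = -(Y * (Z * X)) := fun X => by rw [← mul_assoc, hZY, neg_mul, mul_assoc]
  have e : (pr h2 y z hy hz : Matrix ι ι F) = (2 : F)⁻¹ • ((1 + Y) * (1 + Z)) := by
    show ((2 : F)⁻¹ • (1 : Matrix ι ι F)) * ((1 + Y) * (1 + Z)) = _
    rw [smul_mul_assoc, one_mul]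
  rw [Units.val_mul, Units.val_mul, e, Units.val_neg, Units.val_one, smul_mul_smul_comm, smul_mul_smul_comm]
  set S := Y + Z + Y * Z with hS
  have hSS : S * S = -(1 + 1 + 1) := by
    rw [hS]
    simp only [mul_add, add_mul, mul_assoc, mul_one, one_mul, hY, hZ, hZY, hY', hZ', hZY', mul_neg, neg_mul, neg_neg]
    abel
  have hP : (1 + Y) * (1 + Z) = 1 + S := by
    rw [hS, add_mul, mul_add, mul_add, one_mul, one_mul, mul_one]; abel
  have h3 : (1 + S) * (1 + S) * (1 + S) = -((8 : F) • 1) := by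
    simp only [mul_add, add_mul, mul_one, one_mul, mul_assoc, hSS, mul_neg, neg_mul]
    module
  rw [hP, h3, smul_neg, smul_smul, show (2 : F)⁻¹ * (2 : F)⁻¹ * (2 : F)⁻¹ * 8 = 1 by field_simp; ring, one_smul]

/-- Splitting a normalised product at an intermediate element. -/
theorem pr_split (h2 : (2 : F) ≠ 0) {y z w : GL ι F} (hy : y * y = -1) (hz : z * z = -1) (hw : w * w = -1)
    (hw' : -w * -w = -1) : pr h2 y z hy hz = pr h2 y w hy hw * pr h2 (-w) z hw' hz := by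
  refine Units.ext ?_
  have e : ∀ {a b : GL ι F} (ha : a * a = -1) (hb : b * b = -1),
      (pr h2 a b ha hb : Matrix ι ι F) = (2 : F)⁻¹ • ((1 + (a : Matrix ι ι F)) * (1 + (b : Matrix ι ι F))) := by
    intro a b ha hb
    show ((2 : F)⁻¹ • (1 : Matrix ι ι F)) * ((1 + (a : Matrix ι ι F)) * (1 + (b : Matrix ι ι F))) = _
    rw [smul_mul_assoc, one_mul]
  have hWW : (1 + (w : Matrix ι ι F)) * (1 + ((-w : GL ι F) : Matrix ι ι F)) = (2 : F) • 1 := by
    have hW : (w : Matrix ι ι F) * w = -1 := by rw [← Units.val_mul, hw]; simp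
    simp only [Units.val_neg, mul_add, add_mul, mul_one, one_mul, mul_neg, hW]
    module
  rw [Units.val_mul, e hy hz, e hy hw, e hw' hz, smul_mul_smul_comm,
    show (1 + (y : Matrix ι ι F)) * (1 + (w : Matrix ι ι F)) *
      ((1 + ((-w : GL ι F) : Matrix ι ι F)) * (1 + (z : Matrix ι ι F))) =
      (1 + (y : Matrix ι ι F)) * ((1 + (w : Matrix ι ι F)) * (1 + ((-w : GL ι F) : Matrix ι ι F))) *
        (1 + (z : Matrix ι ι F)) by simp only [mul_assoc],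
    hWW, mul_smul_comm, mul_one, smul_mul_assoc, smul_smul]
  congr 1
  field_simp

namespace IsOp

variable {Γ : Matrix ι ι F} {k : ℕ} {R : Subgroup (GL ι F)} (h : IsOp Γ k R)

include h

theorem pr_mem {y z : GL ι F} (hy : y ∈ R) (hz : z ∈ R) (ey : y * y = -1) (ez : z * z = -1) :
    pr h.gram.two y z ey ez ∈ subgroupNormalizer R ⊓ isoGL Γ :=
  ⟨pr_mem_normalizer h.gram.two ey ez h.pre hy hz, pr_mem_iso h.gram.two ey ez (h.le hy) (h.le hz)⟩

theorem five_le (hk : 3 ≤ k) : 5 ≤ Fintype.card ι := by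
  rw [h.dim]
  exact le_trans (by norm_num) (Nat.pow_le_pow_right two_pos hk)

theorem nons_mem_om (hk : 3 ≤ k) {r : GL ι F} (hr : r ∈ R) (er : r * r = -1) : r ∈ om Γ := by
  obtain ⟨g, hg, hrg⟩ := h.pre.exists_ac hr (h.not_scalar_of_nons hr er)
  obtain ⟨z, hz, ez, hzr, hzg⟩ := h.exists_nons₂ hk hr hg
  have := conj_mem_om (Γ := Γ) (h.pr_mem hr hz er ez).2 (h.le hg)
  rwa [pr_ac h.gram.two er ez hrg.symm hzg.symm, neg_mul, hrg.symm.conj_eq, neg_neg] at this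

/-- `R` lies in the commutator subgroup. -/
theorem le_om (hk : 3 ≤ k) : R ≤ om Γ := by
  intro r hr
  rcases h.sq r hr with e | e
  swap
  · exact h.nons_mem_om hk hr e
  obtain ⟨t, ht, et, htr⟩ := h.exists_nons₁ (by omega) hr
  have h1 := h.nons_mem_om hk (mul_mem hr ht) (by rw [commute_sq_mul htr.symm, e, et, one_mul])
  have := mul_mem h1 (inv_mem (h.nons_mem_om hk ht et))
  rwa [mul_inv_cancel_right] at this

theorem pr_mem_om [Finite F] (hk : 4 ≤ k) {y z : GL ι F} (hy : y ∈ R) (hz : z ∈ R) (ey : y * y = -1)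
    (ez : z * z = -1) : pr h.gram.two y z ey ez ∈ subgroupNormalizer R ⊓ om Γ := by
  refine ⟨(h.pr_mem hy hz ey ez).1, ?_⟩
  have hac : ∀ {y z : GL ι F}, y ∈ R → z ∈ R → Ac y z → ∀ (ey : y * y = -1) (ez : z * z = -1),
      pr h.gram.two y z ey ez ∈ om Γ := fun {y z} hy hz c ey ez => by
    refine h.gram.mem_of_cube (h.five_le (by omega)) (h.pr_mem hy hz ey ez).2 ?_
    rw [pr_cube h.gram.two ey ez c]
    exact h.le_om (by omega) h.neg_one_mem
  rcases h.sign y hy z hz with c | c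
  swap
  · exact hac hy hz c ey ez
  have hy1 := h.not_scalar_of_nons hy ey
  have hz1 := h.not_scalar_of_nons hz ez
  obtain ⟨d, hd, hyd, hzd⟩ : ∃ d ∈ R, Ac y d ∧ Ac z d := by
    obtain ⟨d₁, hd₁, hyd₁⟩ := h.pre.exists_ac hy hy1
    obtain ⟨d₂, hd₂, hzd₂⟩ := h.pre.exists_ac hz hz1
    rcases h.sign z hz d₁ hd₁ with e | e
    · rcases h.sign y hy d₂ hd₂ with e' | e'
      · exact ⟨d₁ * d₂, mul_mem hd₁ hd₂, hyd₁.mul_right e', Ac.mul_right' e hzd₂⟩
      · exact ⟨d₂, hd₂, e', hzd₂⟩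
    · exact ⟨d₁, hd₁, hyd₁, e⟩
  obtain ⟨w, hw, ew, hyw, hzw⟩ : ∃ w ∈ R, w * w = -1 ∧ Ac y w ∧ Ac z w := by
    rcases h.sq d hd with e | e
    · obtain ⟨t, ht, et, hty, htz, htd⟩ := h.exists_nons₃ hk hy hz hd
      exact ⟨d * t, mul_mem hd ht, by rw [commute_sq_mul htd.symm, e, et, one_mul], hyd.mul_right hty.symm,
        hzd.mul_right htz.symm⟩
    · exact ⟨d, hd, e, hyd, hzd⟩
  have hnz : Ac (-w) z := by
    have e : w * z = -(z * w) := hzw.symm
    show -w * z = -(z * -w)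
    rw [neg_mul, e, mul_neg]
  rw [pr_split h.gram.two ey ez ew (by rw [neg_mul_neg, ew])]
  exact mul_mem (hac hy hw hyw ey ew) (hac (h.neg_mem hw) hz hnz _ ez)

theorem step_ac [Finite F] (hk : 4 ≤ k) {a b : GL ι F} (ha : a ∈ R) (hb : b ∈ R) (hab : Ac a b)
    (hsq : a * a = b * b) : ∃ n ∈ subgroupNormalizer R ⊓ om Γ, n * a * n⁻¹ * b⁻¹ ∈ scalars ι F := by
  have hx : a * b * (a * b) = -1 := by
    rw [hab.sq_mul, ← hsq]
    rcases h.sq a ha with e | e <;> simp [e]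
  obtain ⟨t, ht, et, hta, htb⟩ := h.exists_nons₂ (by omega) ha hb
  refine ⟨_, h.pr_mem_om hk (mul_mem ha hb) ht hx et, ?_⟩
  rw [pr_ac h.gram.two hx et (Ac.mul_right' (Commute.refl a) hab) hta.symm, ← mul_assoc, neg_mul, mul_inv_cancel_right]
  exact neg_mem_scalars (h.pre.sq_mem ha)

/-- Transitivity inside a class. -/
theorem transitive [Finite F] (hk : 4 ≤ k) {a b : GL ι F} (ha : a ∈ R) (hb : b ∈ R) (ha1 : a ∉ scalars ι F)
    (hb1 : b ∉ scalars ι F) (hsq : a * a = b * b) :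
    ∃ n ∈ subgroupNormalizer R ⊓ om Γ, n * a * n⁻¹ * b⁻¹ ∈ scalars ι F := by
  rcases h.sign a ha b hb with hab | hab
  swap
  · exact h.step_ac hk ha hb hab hsq
  obtain ⟨d, hd, had, hbd⟩ : ∃ d ∈ R, Ac a d ∧ Ac b d := by
    obtain ⟨d₁, hd₁, had₁⟩ := h.pre.exists_ac ha ha1
    obtain ⟨d₂, hd₂, hbd₂⟩ := h.pre.exists_ac hb hb1
    rcases h.sign b hb d₁ hd₁ with e | e
    · rcases h.sign a ha d₂ hd₂ with e' | e'
      · exact ⟨d₁ * d₂, mul_mem hd₁ hd₂, had₁.mul_right e', Ac.mul_right' e hbd₂⟩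
      · exact ⟨d₂, hd₂, e', hbd₂⟩
    · exact ⟨d₁, hd₁, had₁, e⟩
  obtain ⟨d', hd', had', hbd', hd'a⟩ : ∃ d ∈ R, Ac a d ∧ Ac b d ∧ d * d = a * a := by
    by_cases e : d * d = a * a
    · exact ⟨d, hd, had, hbd, e⟩
    obtain ⟨t, ht, et, hta, htb, htd⟩ := h.exists_nons₃ hk ha hb hd
    refine ⟨d * t, mul_mem hd ht, had.mul_right hta.symm, hbd.mul_right htb.symm, ?_⟩
    rw [commute_sq_mul htd.symm, et]
    rcases h.sq d hd with ed | ed <;> rcases h.sq a ha with ea | ea <;> simp [ed, ea] at e ⊢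
  obtain ⟨n₁, hn₁, e₁⟩ := h.step_ac hk ha hd' had' hd'a.symm
  obtain ⟨n₂, hn₂, e₂⟩ := h.step_ac hk hd' hb hbd'.symm (hd'a.trans hsq)
  refine ⟨n₂ * n₁, mul_mem hn₂ hn₁, ?_⟩
  rw [show n₂ * n₁ * a * (n₂ * n₁)⁻¹ * b⁻¹ =
    n₂ * (n₁ * a * n₁⁻¹ * d'⁻¹) * n₂⁻¹ * (n₂ * d' * n₂⁻¹ * b⁻¹) by group, scalar_conj e₁]
  exact mul_mem e₁ e₂

/-- Subgroups normalised by the normaliser whose elements fixing an element of square minus one lie in `R` lie in `R`. -/
theorem twist_le (hk : 3 ≤ k) (L : Subgroup (GL ι F)) (hL : L ≤ subgroupNormalizer R ⊓ isoGL Γ)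
    (hconj : ∀ n ∈ subgroupNormalizer R ⊓ isoGL Γ, ∀ Q ∈ L, n * Q * n⁻¹ ∈ L)
    (hfix : ∀ Q ∈ L, ∀ d ∈ R, d * d = -1 → PC Q d → Q ∈ R) : L ≤ R := by
  classical
  intro Q hQ
  by_contra hQH
  have hmap : ∀ d ∈ R, Q * d * Q⁻¹ ∈ R := fun d hd => (Subgroup.mem_normalizer_iff.1 (hL hQ).1 d).1 hd
  have hmap' : ∀ d ∈ R, Q⁻¹ * d * Q ∈ R := fun d hd => by
    have := (Subgroup.mem_normalizer_iff.1 (inv_mem (hL hQ).1) d).1 hd
    rwa [inv_inv] at this
  have hsqQ : ∀ d ∈ R, Q * d * Q⁻¹ * (Q * d * Q⁻¹) = d * d := fun d hd => by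
    rw [show Q * d * Q⁻¹ * (Q * d * Q⁻¹) = Q * (d * d) * Q⁻¹ by group, scalar_conj (h.pre.sq_mem hd)]
  have hne : ∀ d ∈ R, d * d = -1 → Q * d * Q⁻¹ * d⁻¹ ∉ scalars ι F := fun d hd e hs =>
    hQH (hfix Q hQ d hd e (pc_of_scalar (h.pre.sq_mem hd) hs))
  obtain ⟨y, hy, ey⟩ := h.exists_nons_univ (by omega)
  have hy1 := h.not_scalar_of_nons hy ey
  set y' := Q * y * Q⁻¹ with hy'def
  have hy'R := hmap y hy
  have ey' : y' * y' = -1 := by rw [hy'def, hsqQ y hy, ey]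
  obtain ⟨t, ht, et, hty, hty'⟩ := h.exists_nons₂ hk hy hy'R
  obtain ⟨z, hz, ez, hzt, hzt', hzu, hzv, hzy⟩ := h.exists_nons_avoid hk ht (hmap' t ht) (hmap' y hy)
    (hmap' _ (mul_mem hy hy'R)) hy
  set z' := Q * z * Q⁻¹ with hz'def
  have hz'R := hmap z hz
  have ez' : z' * z' = -1 := by rw [hz'def, hsqQ z hz, ez]
  have hz't : Commute t z' := by
    have := commute_conj hzt' Q
    rw [show Q * (Q⁻¹ * t * Q) * Q⁻¹ = t by group] at this
    exact this.symm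
  -- the commutator with a normalised product
  set n := pr h.gram.two y z ey ez
  set n' := pr h.gram.two y' z' ey' ez'
  have hn := h.pr_mem hy hz ey ez
  have hn' : Q * n * Q⁻¹ = n' := pr_conj h.gram.two ey ez Q ey' ez' rfl rfl
  have hC : n' * n⁻¹ ∈ L := by
    rw [← hn', show Q * n * Q⁻¹ * n⁻¹ = Q * (n * Q⁻¹ * n⁻¹) by group]
    exact mul_mem hQ (hconj n hn _ (inv_mem hQ))
  have hCt : Commute (n' * n⁻¹) t :=
    (pr_commute h.gram.two ey' ez' hty' hz't).mul_left (pr_commute h.gram.two ey ez hty hzt.symm).inv_left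
  have hCH := hfix _ hC t ht et (Or.inl hCt)
  have key : ∀ w ∈ R, n' * w * n'⁻¹ * (n * w * n⁻¹)⁻¹ ∈ scalars ι F := by
    intro w hw
    have hnw : n * w * n⁻¹ ∈ R := (Subgroup.mem_normalizer_iff.1 hn.1 w).1 hw
    rw [show n' * w * n'⁻¹ = n' * n⁻¹ * (n * w * n⁻¹) * (n' * n⁻¹)⁻¹ by group]
    rcases (h.sign _ hCH _ hnw).conj_mem with e' | e' <;> rw [e']
    · rw [mul_inv_cancel]; exact one_mem _
    · rw [neg_mul, mul_inv_cancel]; exact neg_mem_scalars (one_mem _)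
  -- an element telling `y` and `z` apart
  obtain ⟨w, hw, hwy, hwz⟩ : ∃ w ∈ R, Ac w y ∧ Commute w z := by
    rcases h.sign y hy z hz with c | c
    · have hne' : y * z⁻¹ ∉ scalars ι F := fun e => hzy (by
        have := inv_mem e
        rwa [_root_.mul_inv_rev, inv_inv] at this)
      obtain ⟨d, hd, hdz, hyd⟩ := h.pre.exists_ac_in hz hy c hy1 hne'
      exact ⟨d, hd, hyd.symm, hdz⟩
    · exact ⟨z, hz, c.symm, Commute.refl z⟩
  have h1 := key w hw
  rw [pr_ac h.gram.two ey ez hwy hwz] at h1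
  obtain ⟨e, he, h3⟩ := pr_act h.gram.two ey' ez' (h.sign w hw _ hy'R) (h.sign w hw _ hz'R) (h.sign _ hy'R _ hz'R)
  set X := n' * w * n'⁻¹
  have h4 : -(w * y) * (w * e)⁻¹ ∈ scalars ι F := by
    have := mul_mem (inv_mem h1) h3
    rwa [show (X * (-(w * y))⁻¹)⁻¹ * (X * (w * e)⁻¹) = -(w * y) * (w * e)⁻¹ by group] at this
  rw [neg_mul] at h4
  have h5 := neg_mem_scalars h4
  rw [neg_neg, show w * y * (w * e)⁻¹ = w * (y * e⁻¹) * w⁻¹ by group] at h5
  have h6 : y * e⁻¹ ∈ scalars ι F := (conj_mem_scalars w).1 h5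
  simp only [Set.mem_insert_iff, Set.mem_singleton_iff] at he
  rcases he with rfl | rfl | rfl | rfl
  · exact hy1 (by simpa using h6)
  · exact hne y hy ey (by
      have h7 := inv_mem h6
      rwa [_root_.mul_inv_rev, inv_inv] at h7)
  · refine hzu ?_
    have h7 := inv_mem h6
    rw [_root_.mul_inv_rev, inv_inv] at h7
    have h8 := (conj_mem_scalars Q⁻¹).2 h7
    rwa [hz'def, show Q⁻¹ * (Q * z * Q⁻¹ * y⁻¹) * Q⁻¹⁻¹ = z * (Q⁻¹ * y * Q)⁻¹ by group] at h8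
  · refine hzv ?_
    have h7 : z' * (y * y')⁻¹ ∈ scalars ι F := by
      rw [← bar_eq_one] at h6 ⊢
      simp only [map_mul, map_inv, mul_inv_eq_one] at h6 ⊢
      rw [h6, mul_assoc, h.pre.bar_comm hz'R hy'R, ← mul_assoc, h.pre.bar_sq hy'R, one_mul]
    have h8 := (conj_mem_scalars Q⁻¹).2 h7
    rwa [hz'def, show Q⁻¹ * (Q * z * Q⁻¹ * (y * y')⁻¹) * Q⁻¹⁻¹ = z * (Q⁻¹ * (y * y') * Q)⁻¹ by group] at h8

end IsOp

end CfsgLib.Geo.OrthNorm
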