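import Cfsg.Agent.Lib.Geo.OrthNorm.Ctx
import Cfsg.Agent.Lib.Geo.SympNorm.SpPart

/-!
# The centraliser of an element of square minus one
-/

set_option autoImplicit false
set_option linter.unusedSectionVars false
set_option maxHeartbeats 1000000

namespace CfsgLib.Geo.OrthNorm

open Matrix Cfsg.Geo CfsgLib.Geo.SympNorm
open scoped commutatorElement

variable {κ : Type} [Fintype κ] [DecidableEq κ] {F : Type*} [Field F] {F' : Type*} [Field F'] {G : Matrix κ κ F}
  (φ : F →+* F') {i : F'} (hi : i * i = -1)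

include hi in
theorem phiX_inj (h2 : (2 : F) ≠ 0) (hG : IsSymGram G) :
    Function.Injective (phiX (G := G) φ hi) := by
  have hi0 : i ≠ 0 := by rintro rfl; simp at hi
  have h2' : (2 : F') ≠ 0 := by
    have := (map_ne_zero φ).2 h2
    rwa [map_ofNat] at this
  refine (injective_iff_map_eq_one _).2 fun g hg => ?_
  have e1 : phiM φ i ((g : GL (κ ⊕ κ) F) : Matrix (κ ⊕ κ) (κ ⊕ κ) F) = 1 := congrArg Units.val hg
  have e2 := phiM_gram φ hi g.2
  rw [e1, Matrix.mul_one] at e2
  set A := ((g : GL (κ ⊕ κ) F) : Matrix (κ ⊕ κ) (κ ⊕ κ) F).toBlocks₁₁ with hA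
  set B := ((g : GL (κ ⊕ κ) F) : Matrix (κ ⊕ κ) (κ ⊕ κ) F).toBlocks₁₂ with hB
  have hu : IsUnit (G.map φ).det := by
    rw [show G.map φ = φ.mapMatrix G from rfl, ← RingHom.map_det]
    exact hG.unit.map φ
  have e3 : A.map φ - i • B.map φ = 1 := by
    have := congrArg (fun X => X * (G.map φ)⁻¹) e2
    simp only [Matrix.mul_assoc, Matrix.mul_nonsing_inv _ hu, Matrix.mul_one] at this
    rw [← transpose_transpose (A.map φ - i • B.map φ), this, transpose_one]
  have e1' : A.map φ + i • B.map φ = 1 := e1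
  have hB0 : B.map φ = 0 := by
    have : (2 * i) • B.map φ = 0 := by linear_combination (norm := module) e1' - e3
    exact (smul_eq_zero.1 this).resolve_left (mul_ne_zero h2' hi0)
  rw [hB0, smul_zero, add_zero] at e1'
  have hA1 : A = 1 := Matrix.map_injective φ.injective (by
    show A.map φ = (1 : Matrix κ κ F).map φ
    rw [e1', Matrix.map_one φ (map_zero φ) (map_one φ)])
  have hB1 : B = 0 := Matrix.map_injective φ.injective (by
    show B.map φ = (0 : Matrix κ κ F).map φ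
    rw [hB0, Matrix.map_zero φ (map_zero φ)])
  refine Subtype.ext (Units.ext ?_)
  rw [cen_form (Subgroup.mem_centralizer_singleton_iff.1 g.2.2), ← hA, ← hB, hA1, hB1, neg_zero, fromBlocks_one]
  rfl

variable {k : ℕ} {R M : Subgroup (GL (κ ⊕ κ) F)}
  (hG : IsSymGram G) (C : OCtx (fromBlocks G 0 0 G) (k + 1) R M) (ha : aM ∈ R) (hb : bM ∈ R)

include hG C ha hb hi in
/-- Centralisers of elements of square minus one. -/
theorem part_one [Finite F] [Finite F'] (hk : 3 ≤ k) {p : ℕ} (hp : p ∣ Nat.card F')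
    (hdich : ∀ hS : IsSymp ((half R).map (mapGL φ) ⊔ scalars κ F'),
      (half R).map (mapGL φ) ⊔ scalars κ F' ≤ imgX φ hi G M → hS.HasTv (imgX φ hi G M) →
      imgX φ hi G M ≤ subgroupNormalizer ((half R).map (mapGL φ) ⊔ scalars κ F') ∨
        ∀ g : cenX G, (g : GL (κ ⊕ κ) F) ^ p = 1 → phiX φ hi g ∈ imgX φ hi G M) :
    (∀ g ∈ M, Commute g (aM * bM) → ∀ d ∈ R, Commute d (aM * bM) → g * d * g⁻¹ ∈ R) ∨
      ∀ g ∈ cenX G, g ^ p = 1 → g ∈ M := by
  set Γ := fromBlocks G 0 0 G with hΓdef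
  set x : GL (κ ⊕ κ) F := aM * bM with hxdef
  have hxx : x * x = -1 := xM_sq
  have hxR : x ∈ R := mul_mem ha hb
  have hk' : 4 ≤ k + 1 := by omega
  have h' := C.op.half hG ha hb
  have h2 := C.op.gram.two
  have hi0 : i ≠ 0 := by rintro rfl; simp at hi
  haveI : Nonempty κ := h'.pre.nonempty
  obtain ⟨j₀⟩ := ‹Nonempty κ›
  have hcen : ∀ {g}, g ∈ isoGL Γ → Commute g x → g ∈ cenX G := fun h1 h3 =>
    ⟨h1, Subgroup.mem_centralizer_singleton_iff.2 h3⟩
  -- images
  have hdi : ∀ (y : GL κ F) (h : di y ∈ cenX G), phiX φ hi ⟨di y, h⟩ = mapGL φ y := fun y h => Units.ext (by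
    rw [phiX_val, mapGL_val]
    show phiM φ i ((di y : GL (κ ⊕ κ) F) : Matrix (κ ⊕ κ) (κ ⊕ κ) F) = _
    rw [di_apply, dg_val, phiM, toBlocks_fromBlocks₁₁, toBlocks_fromBlocks₁₂,
      Matrix.map_zero φ (map_zero φ), smul_zero, add_zero])
  have hxim : ∀ h : x ∈ cenX G, phiX φ hi ⟨x, h⟩ = sc i hi0 := fun h => Units.ext (by
    rw [phiX_val]
    show phiM φ i (x : Matrix (κ ⊕ κ) (κ ⊕ κ) F) = _
    rw [hxdef, xM_val, phiM, toBlocks_fromBlocks₁₁, toBlocks_fromBlocks₁₂, Matrix.map_zero φ (map_zero φ),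
      Matrix.map_one φ (map_zero φ) (map_one φ), zero_add]
    rfl)
  have hmemX : ∀ {g : GL (κ ⊕ κ) F} (hg : g ∈ M) (hgx : Commute g x),
      phiX φ hi ⟨g, hcen (C.sub hg) hgx⟩ ∈ imgX φ hi G M := fun {g} hg hgx =>
    Subgroup.mem_sup_left ⟨_, hg, rfl⟩
  have hS : IsSymp ((half R).map (mapGL φ) ⊔ scalars κ F') := isSymp_extend φ hi h'.pre h'.sq
  have hle : (half R).map (mapGL φ) ⊔ scalars κ F' ≤ imgX φ hi G M := by
    refine sup_le ?_ le_sup_right
    rintro _ ⟨r, hr, rfl⟩
    have := hmemX (C.le hk' hr) (di_commute_x r)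
    rwa [hdi] at this
  have hT : hS.HasTv (imgX φ hi G M) := by
    intro y hy hyy
    obtain ⟨q, hq, hqx, hqq, hqe⟩ : ∃ q ∈ R, ∃ hqx : Commute q x, q * q = -1 ∧
        ∀ h : q ∈ cenX G, phiX φ hi ⟨q, h⟩ = y := by
      obtain ⟨_, ⟨r, hr, rfl⟩, c, hc, rfl⟩ := Subgroup.mem_sup_of_normal_right.1 hy
      obtain ⟨d, hd⟩ := (mem_scalars_iff c).1 hc
      have hcd : c * c = sc ((d : F') * d) (mul_ne_zero d.ne_zero d.ne_zero) :=
        Units.ext (by simp [sc, hd, smul_smul])
      rw [show mapGL φ r * c * (mapGL φ r * c) = mapGL φ r * (c * mapGL φ r) * c by group,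
        (commute_scalar hc _).eq, show mapGL φ r * (mapGL φ r * c) * c = mapGL φ r * mapGL φ r * (c * c) by group,
        ← map_mul] at hyy
      have hnr : -r ∈ half R := h'.neg_mem hr
      have hneg : mapGL φ (-r) = -mapGL φ r := by rw [← neg_one_mul, map_mul, mapGL_neg_one, neg_one_mul]
      rcases h'.sq r hr with e | e
      · rw [e, map_one, one_mul, hcd] at hyy
        have hdd : (d : F') * d = i * i := by
          have := congrArg (fun g : GL κ F' => (g : Matrix κ κ F') j₀ j₀) hyy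
          simp [sc] at this
          rw [this, hi]
        have hq : ∀ s : GL κ F, s * s = 1 → di s * x * (di s * x) = -1 := fun s hs => by
          rw [commute_sq_mul (di_commute_x s), ← map_mul, hs, map_one, one_mul, hxx]
        rcases mul_self_eq_mul_self_iff.1 hdd with e' | e'
        · refine ⟨di r * x, mul_mem hr hxR, (di_commute_x r).mul_left (Commute.refl x), hq r e, fun h => ?_⟩
          rw [show (⟨di r * x, h⟩ : cenX G) = ⟨di r, hcen (C.op.le hr) (di_commute_x r)⟩ *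
            ⟨x, hcen (C.op.le hxR) (Commute.refl x)⟩ from rfl, map_mul, hdi, hxim]
          congr 1
          exact Units.ext (by rw [hd, e']; rfl)
        · refine ⟨di (-r) * x, mul_mem hnr hxR, (di_commute_x (-r)).mul_left (Commute.refl x),
            hq (-r) (by rw [neg_mul_neg, e]), fun h => ?_⟩
          rw [show (⟨di (-r) * x, h⟩ : cenX G) = ⟨di (-r), hcen (C.op.le hnr) (di_commute_x (-r))⟩ *
            ⟨x, hcen (C.op.le hxR) (Commute.refl x)⟩ from rfl, map_mul, hdi, hxim, hneg, neg_mul, ← mul_neg]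
          congr 1
          exact Units.ext (by rw [hd, e', Units.val_neg, neg_smul]; rfl)
      · rw [e, mapGL_neg_one, neg_one_mul, neg_inj, hcd] at hyy
        have hdd : (d : F') * d = 1 := by
          have := congrArg (fun g : GL κ F' => (g : Matrix κ κ F') j₀ j₀) hyy
          simpa [sc] using this
        have hq : ∀ s : GL κ F, s * s = -1 → di s * di s = -1 := fun s hs => by
          rw [← map_mul, hs, di_neg, map_one]
        rcases mul_self_eq_one_iff.1 hdd with e' | e'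
        · refine ⟨di r, hr, di_commute_x r, hq r e, fun h => ?_⟩
          rw [hdi, show c = 1 from Units.ext (by rw [hd, e', one_smul, Units.val_one]), mul_one]
        · refine ⟨di (-r), hnr, di_commute_x (-r), hq (-r) (by rw [neg_mul_neg, e]), fun h => ?_⟩
          rw [hdi, hneg, show c = -1 from Units.ext (by rw [hd, e', neg_smul, one_smul, Units.val_neg, Units.val_one]),
            mul_neg_one]
    set n := pr h2 x q hxx hqq with hn
    have hnM : n ∈ M := C.above (C.op.pr_mem_om hk' hxR hq hxx hqq)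
    have hnx : Commute n x := pr_commute h2 hxx hqq (Commute.refl x) hqx.symm
    set l : F' := (1 + i) * (2 : F')⁻¹ with hl
    have h1i : (1 : F') + i ≠ 0 := fun e => by
      have : (2 : F') = 0 := by linear_combination (1 - i) * e + hi
      exact hS.two this
    have hl0 : l ≠ 0 := mul_ne_zero h1i (inv_ne_zero hS.two)
    have hval : phiX φ hi ⟨n, hcen (C.sub hnM) hnx⟩ = sc l hl0 * tv hS.two y hyy := by
      refine Units.ext ?_
      have eq1 : (phiX φ hi ⟨q, hcen (C.op.le hq) hqx⟩ : GL κ F') = y := hqe _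
      have eq2 := hxim (hcen (C.op.le hxR) (Commute.refl x))
      have eq3 : phiM φ i (((aM * bM * q : GL (κ ⊕ κ) F)) : Matrix (κ ⊕ κ) (κ ⊕ κ) F) = i • (y : Matrix κ κ F') := by
        rw [phiM_mul φ hi hqx]
        have f1 := congrArg Units.val eq1
        have f2 := congrArg Units.val eq2
        rw [phiX_val] at f1 f2
        rw [f1, f2]
        show (i • (1 : Matrix κ κ F')) * _ = _
        rw [smul_mul_assoc, Matrix.one_mul]
      have eA : (n : Matrix (κ ⊕ κ) (κ ⊕ κ) F) = (2 : F)⁻¹ • (1 + (x : Matrix (κ ⊕ κ) (κ ⊕ κ) F) +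
          (q : Matrix (κ ⊕ κ) (κ ⊕ κ) F) + ((x * q : GL (κ ⊕ κ) F) : Matrix (κ ⊕ κ) (κ ⊕ κ) F)) := by
        show (2 : F)⁻¹ • (1 : Matrix (κ ⊕ κ) (κ ⊕ κ) F) * ((1 + (x : Matrix (κ ⊕ κ) (κ ⊕ κ) F)) *
          (1 + (q : Matrix (κ ⊕ κ) (κ ⊕ κ) F))) = _
        rw [smul_mul_assoc, Matrix.one_mul, Units.val_mul x q, Matrix.add_mul, Matrix.one_mul, Matrix.mul_add,
          Matrix.mul_one]
        abel_nf
      have hlin : ∀ P Q : Matrix (κ ⊕ κ) (κ ⊕ κ) F, phiM φ i (P + Q) = phiM φ i P + phiM φ i Q := fun P Q => by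
        simp only [phiM]
        rw [show (P + Q).toBlocks₁₁ = P.toBlocks₁₁ + Q.toBlocks₁₁ from rfl,
          show (P + Q).toBlocks₁₂ = P.toBlocks₁₂ + Q.toBlocks₁₂ from rfl, Matrix.map_add φ (map_add φ),
          Matrix.map_add φ (map_add φ), smul_add]
        abel
      have hsm : ∀ (a : F) (P : Matrix (κ ⊕ κ) (κ ⊕ κ) F), phiM φ i (a • P) = φ a • phiM φ i P := fun a P => by
        simp only [phiM]
        rw [show (a • P).toBlocks₁₁ = a • P.toBlocks₁₁ from rfl, show (a • P).toBlocks₁₂ = a • P.toBlocks₁₂ from rfl,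
          map_smulφ φ, map_smulφ φ, smul_add,
          smul_comm i]
      have f1 : phiM φ i (q : Matrix (κ ⊕ κ) (κ ⊕ κ) F) = (y : Matrix κ κ F') := congrArg Units.val eq1
      have f2 : phiM φ i (x : Matrix (κ ⊕ κ) (κ ⊕ κ) F) = i • (1 : Matrix κ κ F') := congrArg Units.val eq2
      have f0 : phiM φ i (1 : Matrix (κ ⊕ κ) (κ ⊕ κ) F) = (1 : Matrix κ κ F') := by
        rw [← fromBlocks_one, phiM, toBlocks_fromBlocks₁₁, toBlocks_fromBlocks₁₂,
          Matrix.map_one φ (map_zero φ) (map_one φ), Matrix.map_zero φ (map_zero φ), smul_zero, add_zero]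
      rw [phiX_val]
      show phiM φ i (n : Matrix (κ ⊕ κ) (κ ⊕ κ) F) = (l • (1 : Matrix κ κ F')) * (1 + (y : Matrix κ κ F'))
      rw [eA, hsm, hlin, hlin, hlin, f0, f1, f2, eq3, map_inv₀, map_ofNat, smul_mul_assoc, Matrix.one_mul, hl]
      module
    have := hmemX hnM hnx
    rw [hval] at this
    rw [show tv hS.two y hyy = (sc l hl0)⁻¹ * (sc l hl0 * tv hS.two y hyy) by group]
    exact mul_mem (Subgroup.mem_sup_right (inv_mem (sc_mem _ _))) this
  rcases hdich hS hle hT with hN | hB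
  swap
  · -- everything of order `p`
    right
    intro g hg hgp
    classical
    haveI := Fintype.ofFinite F'
    obtain ⟨_, ⟨m, hm, rfl⟩, c, hc, e⟩ := Subgroup.mem_sup_of_normal_right.1 (hB ⟨g, hg⟩ hgp)
    set e₀ := (Fintype.card F' - 1) * (Fintype.card F' - 1)
    have hce : c ^ e₀ = 1 := by
      obtain ⟨d, hd⟩ := (mem_scalars_iff c).1 hc
      refine Units.ext ?_
      rw [Units.val_pow_eq_pow_val, hd, smul_pow, one_pow, pow_mul, FiniteField.pow_card_sub_one_eq_one _ d.ne_zero,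
        one_pow, one_smul, Units.val_one]
    have hge : (⟨g, hg⟩ : cenX G) ^ e₀ = ⟨g, hg⟩ := by
      refine Subtype.ext ?_
      rw [SubgroupClass.coe_pow]
      obtain ⟨r, hr⟩ := hp
      rw [Nat.card_eq_fintype_card] at hr
      have h1 : 2 ≤ Fintype.card F' := Fintype.one_lt_card
      have h2 : e₀ = p * (r * (Fintype.card F' - 2)) + 1 := by
        rw [← mul_assoc, ← hr]
        obtain ⟨q, hq⟩ : ∃ q, Fintype.card F' = q + 2 := ⟨_, (Nat.sub_add_cancel h1).symm⟩
        simp only [e₀, hq, show q + 2 - 1 = q + 1 by omega, show q + 2 - 2 = q by omega]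
        ring
      rw [h2, pow_succ, pow_mul, hgp, one_pow, one_mul]
    have h3 : phiX φ hi ⟨g, hg⟩ = phiX φ hi (m ^ e₀) := by
      rw [← hge, map_pow, map_pow, ← e, Commute.mul_pow (commute_scalar hc _).symm, hce, mul_one]
    have h4 := congrArg Subtype.val (phiX_inj φ hi h2 hG h3)
    rw [SubgroupClass.coe_pow] at h4
    have h5 : g = (m : GL (κ ⊕ κ) F) ^ e₀ := h4
    rw [h5]
    exact pow_mem hm _
  left
  intro g hg hgx d hd hdx
  have hmap : ∀ d ∈ R, ∀ hdx : Commute d x, ∀ h : d ∈ cenX G,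
      phiX φ hi ⟨d, h⟩ ∈ (half R).map (mapGL φ) ⊔ scalars κ F' := by
    have key : ∀ d ∈ R, Commute d x → Commute d aM → ∀ h : d ∈ cenX G,
        phiX φ hi ⟨d, h⟩ ∈ (half R).map (mapGL φ) ⊔ scalars κ F' := by
      intro d hd hdx hda hc
      obtain ⟨r, hr, rfl | rfl⟩ := C.op.pre.exists_half ha hb hd hda
      · exact Subgroup.mem_sup_left ⟨r, hr, (hdi r hc).symm⟩
      · exfalso
        have e := congrArg Matrix.toBlocks₂₂ (cen_form hdx)
        rw [dg_val, toBlocks_fromBlocks₂₂, toBlocks_fromBlocks₂₂, toBlocks_fromBlocks₁₁, Units.val_neg] at e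
        have e2 : (2 : F) • (r : Matrix κ κ F) = 0 := by
          rw [two_smul]; nth_rewrite 1 [← e]; exact neg_add_cancel _
        have := Units.mul_inv r
        rw [(smul_eq_zero.1 e2).resolve_left h2, zero_mul] at this
        exact zero_ne_one this
    intro d hd hdx hc
    rcases C.op.sign d hd aM ha with hda | hda
    · exact key d hd hdx hda hc
    · have hxa : Ac x aM := Ac.mul_left' (Commute.refl aM) ac_aM_bM.symm
      have h1 : d * x ∈ cenX G := mul_mem hc (hcen (C.op.le hxR) (Commute.refl x))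
      have h3 := key (d * x) (mul_mem hd hxR) (hdx.mul_left (Commute.refl x))
        (commute_of_ac_ac hda.symm hxa.symm).symm h1
      rw [show (⟨d * x, h1⟩ : cenX G) = ⟨d, hc⟩ * ⟨x, hcen (C.op.le hxR) (Commute.refl x)⟩ from rfl, map_mul,
        hxim] at h3
      have := mul_mem h3 (inv_mem (Subgroup.mem_sup_right (sc_mem i hi0)))
      rwa [mul_inv_cancel_right] at this
  have hgc : g ∈ cenX G := hcen (C.sub hg) hgx
  have hdc : d ∈ cenX G := hcen (C.op.le hd) hdx
  have h1 := (Subgroup.mem_normalizer_iff.1 (hN (hmemX hg hgx)) _).1 (hmap d hd hdx hdc)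
  rw [← map_inv, ← map_mul, ← map_mul] at h1
  obtain ⟨_, ⟨r, hr, rfl⟩, c, hc, e⟩ := Subgroup.mem_sup_of_normal_right.1 h1
  set z : cenX G := ⟨di r, hcen (C.op.le hr) (di_commute_x r)⟩⁻¹ * (⟨g, hgc⟩ * ⟨d, hdc⟩ * ⟨g, hgc⟩⁻¹) with hz
  have hzc : phiX φ hi z = c := by
    rw [hz, map_mul _ (_ : cenX G)⁻¹, map_inv, hdi, ← e, inv_mul_cancel_left]
  obtain ⟨u, hu⟩ := (mem_scalars_iff c).1 hc
  set w : GL (κ ⊕ κ) F := (di r)⁻¹ * (g * d * g⁻¹) with hw
  have hwz : (z : GL (κ ⊕ κ) F) = w := rfl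
  have hwx : Commute w x := ((di_commute_x r).inv_left).mul_left ((hgx.mul_left hdx).mul_left hgx.inv_left)
  have hwi : w ∈ isoGL (fromBlocks G 0 0 G) := hwz ▸ z.2.1
  set A := (w : Matrix (κ ⊕ κ) (κ ⊕ κ) F).toBlocks₁₁ with hA
  set B := (w : Matrix (κ ⊕ κ) (κ ⊕ κ) F).toBlocks₁₂ with hB
  have eP : A.map φ + i • B.map φ = (u : F') • (1 : Matrix κ κ F') := by
    rw [← hu, ← hzc, phiX_val, hwz]; rfl
  have eM : A.map φ - i • B.map φ = (u : F')⁻¹ • (1 : Matrix κ κ F') := by
    have e2 := phiM_gram φ hi (hwz ▸ z.2 : w ∈ cenX G)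
    rw [show phiM φ i (w : Matrix (κ ⊕ κ) (κ ⊕ κ) F) = (u : F') • 1 from eP, Matrix.mul_smul, Matrix.mul_one] at e2
    have hu' : IsUnit (G.map φ).det := by
      rw [show G.map φ = φ.mapMatrix G from rfl, ← RingHom.map_det]
      exact hG.unit.map φ
    have := congrArg (fun X => (u : F')⁻¹ • (X * (G.map φ)⁻¹)) e2
    simp only [Matrix.smul_mul, Matrix.mul_assoc, Matrix.mul_nonsing_inv _ hu', Matrix.mul_one, smul_smul,
      inv_mul_cancel₀ u.ne_zero, one_smul] at this
    rw [← transpose_transpose (A.map φ - i • B.map φ), this, transpose_smul, transpose_one]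
  have hscal : ∀ (Z : Matrix κ κ F) (t : F'), Z.map φ = t • (1 : Matrix κ κ F') → ∃ a : F, Z = a • 1 ∧ φ a = t := by
    intro Z t ht
    have hd' : φ (Z j₀ j₀) = t := by simpa using congrFun₂ ht j₀ j₀
    refine ⟨Z j₀ j₀, ?_, hd'⟩
    ext p q
    refine φ.injective ?_
    have := congrFun₂ ht p q
    by_cases hpq : p = q
    · subst hpq
      simp at this ⊢
      rw [this, hd']
    · simpa [hpq] using this
  have hi2 : (2 : F') * i ≠ 0 := mul_ne_zero hS.two hi0
  obtain ⟨α, hαe, hα⟩ := hscal A (((u : F') + (u : F')⁻¹) * (2 : F')⁻¹) (by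
    apply smul_right_injective (Matrix κ κ F') hS.two
    show (2 : F') • A.map φ = (2 : F') • _
    rw [smul_smul, mul_comm _ (2 : F')⁻¹, ← mul_assoc, mul_inv_cancel₀ hS.two, one_mul]
    linear_combination (norm := module) eP + eM)
  obtain ⟨β, hβe, hβ⟩ := hscal B (((u : F') - (u : F')⁻¹) * (2 * i)⁻¹) (by
    apply smul_right_injective (Matrix κ κ F') hi2
    show ((2 : F') * i) • B.map φ = ((2 : F') * i) • _
    rw [smul_smul, mul_comm _ (2 * i)⁻¹, ← mul_assoc, mul_inv_cancel₀ hi2, one_mul]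
    linear_combination (norm := module) eP - eM)
  have hwv : (w : Matrix (κ ⊕ κ) (κ ⊕ κ) F) =
      α • (1 : Matrix (κ ⊕ κ) (κ ⊕ κ) F) + β • (x : Matrix (κ ⊕ κ) (κ ⊕ κ) F) := by
    rw [cen_form hwx, ← hA, ← hB, hαe, hβe, xM_val, ← fromBlocks_one, fromBlocks_smul, fromBlocks_smul,
      fromBlocks_add]
    simp
  have hnorm : α * α + β * β = 1 := by
    refine φ.injective ?_
    have hi' : i⁻¹ = -i := inv_eq_of_mul_eq_one_right (by rw [mul_neg, hi, neg_neg])
    rw [map_add, map_mul, map_mul, map_one, hα, hβ, mul_inv, hi']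
    field_simp
    rw [div_eq_iff (pow_ne_zero _ hS.two)]
    linear_combination ((u : F') ^ 2 - 1) ^ 2 * hi
  -- squares
  have hxw : Commute w (di r) := by
    refine Units.ext ?_
    rw [Units.val_mul w (di r), Units.val_mul (di r) w, hwv]
    have e1 := congrArg Units.val (show di r * x = x * di r from (di_commute_x r).eq)
    simp only [Units.val_mul (di r) x, Units.val_mul x (di r)] at e1
    simp only [Matrix.add_mul, Matrix.mul_add, Matrix.smul_mul, Matrix.mul_smul, Matrix.one_mul, Matrix.mul_one]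
    rw [← e1]
  have hw2 : w * w = 1 ∨ w * w = -1 := by
    have e1 : g * d * g⁻¹ = di r * w := by rw [hw, mul_inv_cancel_left]
    have e2 : g * d * g⁻¹ * (g * d * g⁻¹) = d * d := by
      rw [show g * d * g⁻¹ * (g * d * g⁻¹) = g * (d * d) * g⁻¹ by group, scalar_conj (C.op.pre.sq_mem hd)]
    rw [e1, commute_sq_mul hxw.symm] at e2
    rcases C.op.sq d hd with e3 | e3 <;> rcases C.op.sq (di r) hr with e4 | e4 <;> rw [e3, e4] at e2
    · left; rwa [one_mul] at e2
    · right; rw [neg_one_mul] at e2; exact neg_eq_iff_eq_neg.1 e2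
    · right; rwa [one_mul] at e2
    · left; rw [neg_one_mul] at e2; exact neg_inj.1 e2
  have hww : ((w * w : GL (κ ⊕ κ) F) : Matrix (κ ⊕ κ) (κ ⊕ κ) F) =
      (α * α - β * β) • (1 : Matrix (κ ⊕ κ) (κ ⊕ κ) F) + (2 * (α * β)) • (x : Matrix (κ ⊕ κ) (κ ⊕ κ) F) := by
    have e1 : (x : Matrix (κ ⊕ κ) (κ ⊕ κ) F) * x = -1 := by rw [← Units.val_mul, hxx]; simp
    rw [Units.val_mul, hwv]
    simp only [Matrix.add_mul, Matrix.mul_add, Matrix.smul_mul, Matrix.mul_smul, Matrix.one_mul, Matrix.mul_one,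
      smul_smul, e1]
    module
  have hab : α * β = 0 := by
    have e1 : ((w * w : GL (κ ⊕ κ) F) : Matrix (κ ⊕ κ) (κ ⊕ κ) F) (Sum.inl j₀) (Sum.inr j₀) = 0 := by
      rcases hw2 with e | e <;> rw [e] <;> simp
    rw [hww, xM_val] at e1
    simp at e1
    rcases e1 with e1 | e1 | e1
    · exact absurd e1 h2
    · simp [e1]
    · simp [e1]
  have hwR : w ∈ R := by
    rcases mul_eq_zero.1 hab with e | e
    · rw [e, zero_mul, zero_add] at hnorm
      rcases mul_self_eq_one_iff.1 hnorm with e' | e'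
      · rw [show w = x from Units.ext (by rw [hwv, e, e', zero_smul, one_smul, zero_add])]
        exact hxR
      · rw [show w = -x from Units.ext (by rw [hwv, e, e', zero_smul, neg_smul, one_smul, zero_add, Units.val_neg])]
        exact C.op.neg_mem hxR
    · rw [e, zero_mul, add_zero] at hnorm
      rcases mul_self_eq_one_iff.1 hnorm with e' | e'
      · rw [show w = 1 from Units.ext (by rw [hwv, e, e', zero_smul, one_smul, add_zero, Units.val_one])]
        exact one_mem R
      · rw [show w = -1 from Units.ext (by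
          rw [hwv, e, e', zero_smul, neg_smul, one_smul, add_zero, Units.val_neg, Units.val_one])]
        exact C.op.neg_one_mem
  rw [show g * d * g⁻¹ = di r * w by rw [hw, mul_inv_cancel_left]]
  exact mul_mem hr hwR

end CfsgLib.Geo.OrthNorm
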